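/-
Project NCO (S4185): a noncyclic outer part over a socle of Lie type gives a prime adjacent to all other primes.
Definitions and elementary lemmas.
-/
import Cfsg.Agent.PQ.Defs
import Cfsg.Agent.SB.Defs
import Cfsg.Agent.Grp.PGroupCyc

set_option autoImplicit false

namespace CL.NCO

open Cfsg CL.PQ CL.LocBal Subgroup

/-- `G` has a noncyclic `s`-subgroup. -/
def NCy (s : ℕ) (G : Type*) [Group G] : Prop := ∃ P : Subgroup G, IsPGroup s P ∧ ¬ IsCyclic P

/-- `r` divides the order of every normal subgroup with cyclic quotient. -/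
def Key (r : ℕ) (X : Type*) [Group X] : Prop := ∀ Y : Subgroup X, ∀ [Y.Normal], IsCyclic (X ⧸ Y) → r ∣ Nat.card Y

/-- The image of a group of automorphisms in the outer automorphism group. -/
abbrev Img {S : Type*} [Group S] (H : Subgroup (MulAut S)) : Subgroup (Out S) := H.map (QuotientGroup.mk' (Inn S))

/-- Every group between `Inn S` and `Aut S` with key prime `r` has an element of order `r * s`. -/
def AdjAt (S : Type*) [Group S] (r s : ℕ) : Prop :=
  ∀ H : Subgroup (MulAut S), Inn S ≤ H → Key r (Img H) → Adj H r s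

/-- The elements of order `s` are central. -/
def OutC (X : Type*) [Group X] (s : ℕ) : Prop := ∀ y : X, orderOf y = s → y ∈ center X

/-- The almost simple case of S4185. -/
def Star (S : Type*) [Group S] : Prop := ∀ H : Subgroup (MulAut S), Inn S ≤ H → ∀ r, r.Prime → Key r (Img H) →
  r ∣ Nat.card S ∧ ∀ s, s.Prime → s ≠ r → s ∣ Nat.card H → Adj H r s

/-- An odd prime `s ≠ p` with noncyclic Sylow subgroups divides `d` or is adjacent to `2`, `p` and the primes of
`q ^ 2 - 1`. -/
def Tor (p q d : ℕ) (S : Type*) [Group S] : Prop := ∀ s, s.Prime → s ≠ 2 → s ≠ p → NCy s S →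
  s ∣ d ∨ ∀ t, t.Prime → t ≠ s → (t = 2 ∨ t = p ∨ t ∣ q ^ 2 - 1) → Adj S t s

/-- The parameters of an algebraic model. -/
def Par {p : ℕ} {K : Type*} [Group K] (M : SB.Mdl p K) (q d : ℕ) : Prop :=
  M.ρ ∈ M.R.aut ∧ (∀ s t, M.f s t = t ^ q) ∧
    ∀ z : M.ι → M.Ωˣ, (∀ s, M.R.chi M.Ωˣ s z = 1) → M.R.tAct M.ρ z ^ q = z → z ^ d = 1

/-- There is an algebraic model with parameters `q` and `d`. -/
def Mod (p q d : ℕ) (K : Type*) [Group K] : Prop := ∃ M : SB.Mdl p K, Par M q d

/-- The uniform torus argument. -/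
def TorStmt : Prop := ∀ (p q d : ℕ) [Fact p.Prime] (K : Type) [Group K] [Finite K], Mod p q d K → Tor p q d K

variable {G G' S S' X Y : Type*} [Group G] [Group G'] [Group S] [Group S'] [Group X] [Group Y] {p q d r s t : ℕ}

theorem Mod.of_equiv (e : S ≃* S') (h : Mod p q d S') : Mod p q d S := let ⟨M, h⟩ := h; ⟨M.ofEquiv e, h⟩

theorem NCy.inj (h : NCy s G) (f : G →* G') (hf : Function.Injective f) : NCy s G' :=
  let ⟨P, a, b⟩ := h
  ⟨P.map f, a.map f, fun c => b ((P.equivMapOfInjective f hf).isCyclic.2 c)⟩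

theorem NCy.sylow (h : NCy s G) (P : Sylow s G) [Fact s.Prime] [Finite (Sylow s G)] : ¬ IsCyclic P := fun c => by
  obtain ⟨Q, a, b⟩ := h
  obtain ⟨T, hT⟩ := a.exists_le_sylow
  have := (P.equiv T).isCyclic.1 c
  exact b (isCyclic_of_injective _ (inclusion_injective hT))

theorem NCy.surj [Finite G] (hs : s.Prime) (h : NCy s G') (f : G →* G') (hf : Function.Surjective f) : NCy s G := by
  have := Fact.mk hs
  have := Finite.of_surjective f hf
  let P : Sylow s G := default
  exact ⟨P, P.isPGroup', fun c => h.sylow (P.mapSurjective hf) (isCyclic_of_surjective _ (f.subgroupMap_surjective _))⟩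

theorem NCy.sq_dvd [Finite G] (hs : s.Prime) (h : NCy s G) : s ^ 2 ∣ Nat.card G := by
  have := Fact.mk hs
  obtain ⟨P, a, b⟩ := h
  obtain ⟨k, hk⟩ := a.exists_card_eq
  refine (pow_dvd_pow s (by_contra fun h3 => b (isCyclic_of_card_dvd_prime (p := s) ?_) : 2 ≤ k)).trans
    (hk ▸ card_subgroup_dvd_card P)
  rw [hk]
  exact (pow_dvd_pow s (show k ≤ 1 by omega)).trans (pow_one s).dvd

/-- A noncyclic `s`-subgroup embeds in every quotient whose kernel has order prime to `s`. -/
theorem NCy.of_ker [Finite G] (hs : s.Prime) (h : NCy s G) (f : G →* G') (hf : ¬ s ∣ Nat.card f.ker) : NCy s G' := by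
  have := Fact.mk hs
  obtain ⟨P, a, b⟩ := h
  refine NCy.inj (G := P) ⟨⊤, a.to_subgroup _, fun c => b (topEquiv.isCyclic.1 c)⟩ (f.comp P.subtype)
    ((injective_iff_map_eq_one _).2 fun x e => by_contra fun hx => hf ?_)
  exact (a.dvd_orderOf hx).trans ((orderOf_coe x).symm.dvd.trans (orderOf_dvd_natCard f.ker e))

/-- A subgroup of index prime to `s` contains a Sylow `s`-subgroup. -/
theorem NCy.of_index [Finite G] (hs : s.Prime) (h : NCy s G) (C : Subgroup G) (hC : ¬ s ∣ C.index) : NCy s C := by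
  have := Fact.mk hs
  let P : Sylow s C := default
  have h1 : IsPGroup s (P.1.map C.subtype) := P.isPGroup'.map _
  refine ⟨P, P.isPGroup', fun c => h.sylow (h1.toSylow ?_)
    ((P.1.equivMapOfInjective _ C.subtype_injective).isCyclic.1 c)⟩
  rw [index_map_subtype]
  exact fun e => ((Nat.Prime.dvd_mul hs).1 e).elim P.not_dvd_index hC

theorem NCy.not_of_cyclic [IsCyclic G] : ¬ NCy s G := fun ⟨_, _, b⟩ => b inferInstance

/-- For odd `s` a noncyclic `s`-group contains two independent commuting elements of order `s`. -/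
theorem NCy.exists_pair [Finite G] (hs : s.Prime) (h2 : s ≠ 2) (h : NCy s G) :
    ∃ a b : G, a ^ s = 1 ∧ b ^ s = 1 ∧ Commute a b ∧ a ≠ 1 ∧ b ∉ zpowers a := by
  have := Fact.mk hs
  obtain ⟨P, a, b⟩ := h
  obtain ⟨E, hE, hE2⟩ : ∃ E : Subgroup P, IsElementaryAbelian s E ∧ Nat.card E = s ^ 2 := by
    by_contra! h
    exact (CL.Grp.isCyclic_or_quaternion_of_forall_ea a h).elim b fun e => h2 e.1
  have h0 : ∀ e ∈ E, ∃ e' ∈ E, e' ∉ zpowers e := fun e he => by
    by_contra! h
    have := (card_le_of_le h).trans ((Nat.card_zpowers e).trans_le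
      (Nat.le_of_dvd hs.pos (orderOf_dvd_of_pow_eq_one (hE.2 e he))))
    rw [hE2] at this
    nlinarith [hs.two_le]
  obtain ⟨β, b1, b2⟩ := h0 1 (one_mem _)
  obtain ⟨γ, c1, c2⟩ := h0 β b1
  have := hE.1
  exact ⟨β, γ, congrArg Subtype.val (hE.2 β b1), congrArg Subtype.val (hE.2 γ c1),
    congrArg Subtype.val (setLike_mul_comm b1 c1), fun e => b2 (by simp [show β = 1 from Subtype.ext e]),
    fun ⟨k, hk⟩ => c2 ⟨k, Subtype.ext hk⟩⟩

theorem Key.of_hom (h : Key r X) {C : Type*} [Group C] [IsCyclic C] (π : X →* C) : r ∣ Nat.card π.ker :=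
  h π.ker (isCyclic_of_injective _ (QuotientGroup.kerLift_injective π))

theorem Key.dvd_card (h : Key r X) : r ∣ Nat.card X :=
  (h.of_hom (C := Multiplicative (ZMod 1)) 1).trans (card_subgroup_dvd_card _)

theorem Key.of_equiv (e : X ≃* Y) (h : Key r X) : Key r Y := fun Z _ c => by
  have := h.of_hom ((QuotientGroup.mk' Z).comp e.toMonoidHom)
  rw [← MonoidHom.comap_ker, QuotientGroup.ker_mk'] at this
  exact this.trans (card_dvd_of_injective ((e.toMonoidHom.comp (Subgroup.subtype _)).codRestrict Z fun x => x.2)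
    fun _ _ h => Subtype.ext (e.injective (congrArg Subtype.val h)))

/-- The key primes of the subgroups divide the order of the kernel of a homomorphism to a cyclic group. -/
theorem Key.dvd_ker {K : Subgroup X} (h : Key r K) {C : Type*} [Group C] [IsCyclic C] (π : X →* C) :
    r ∣ Nat.card π.ker :=
  (h.of_hom (π.comp K.subtype)).trans (card_dvd_of_injective
    ((K.subtype.comp (Subgroup.subtype _)).codRestrict π.ker fun x => x.2)
    fun _ _ h => Subtype.ext (Subtype.ext (congrArg (fun z : π.ker => z.1) h)))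

theorem Key.not_of_cyclic [IsCyclic X] {K : Subgroup X} (hr : r.Prime) : ¬ Key r K := fun h =>
  hr.not_dvd_one (by
    have := h.dvd_ker (MonoidHom.id X)
    rwa [(MonoidHom.ker_eq_bot_iff _).2 fun _ _ => id, card_bot] at this)

theorem Tor.of_equiv (e : S ≃* S') (h : Tor p q d S') : Tor p q d S := fun s a b c x =>
  (h s a b c (x.inj e.toMonoidHom e.injective)).imp_right fun h t a b c =>
    (h t a b c).inj e.symm.toMonoidHom e.symm.injective

theorem adjAt_of_adj (hZ : center S = ⊥) (h : Adj S r s) : AdjAt S r s := fun H a _ =>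
  h.inj (MulAut.conj.codRestrict H fun g => a ⟨g, rfl⟩) fun _ _ e => conj_injective hZ (congrArg Subtype.val e)

end CL.NCO
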