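/-
Project NCO (S4185): the abstract reduction in the almost simple case.
-/
import Cfsg.Agent.NCO.Defs

set_option autoImplicit false

namespace CL.NCO

open Cfsg CL.PQ CL.LocBal Subgroup

variable {G G' S S' X Y : Type*} [Group G] [Group G'] [Group S] [Group S'] [Group X] [Group Y] {p q d r s t : ℕ}
  {P : ℕ → Prop}

theorem Key.of_surj [Finite G] (h : Key r X) (f : G →* X) (hf : Function.Surjective f) : Key r G := fun Z _ c => by
  have := Subgroup.Normal.map ‹Z.Normal› f hf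
  refine (h (Z.map f) (isCyclic_of_surjective (QuotientGroup.map Z (Z.map f) f (le_comap_map f Z)) fun y => ?_)).trans
    (card_dvd_of_surjective _ (f.subgroupMap_surjective Z))
  obtain ⟨y, rfl⟩ := QuotientGroup.mk_surjective y
  obtain ⟨y, rfl⟩ := hf y
  exact ⟨y, rfl⟩

theorem NCy.key [Finite X] (hr : r.Prime) (h : NCy r X) : Key r X := fun Y _ _ => by_contra fun e =>
  NCy.not_of_cyclic (h.of_ker hr (QuotientGroup.mk' Y) (by rwa [QuotientGroup.ker_mk']))

theorem key_of_commutator (h : r ∣ Nat.card (commutator X)) : Key r X := fun Y _ c =>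
  h.trans (card_dvd_of_le (by
    let _ := c.commGroup
    simpa using Abelianization.commutator_subset_ker (QuotientGroup.mk' Y)))

theorem Key.dvd [Finite X] (hr : r.Prime) (h : Key r X) : r ∣ Nat.card (commutator X) ∨ NCy r X := by
  have := Fact.mk hr
  by_contra! hn
  obtain ⟨k, m, hm, e⟩ := Nat.exists_eq_pow_mul_and_not_dvd (Nat.card_pos (α := X)).ne' r hr.ne_one
  let π := (powMonoidHom m).comp (Abelianization.of (G := X))
  have h1 : IsCyclic π.range := by_contra fun c => hn.2 (NCy.surj (G' := π.range) hr ⟨⊤, fun x => ⟨k, by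
    obtain ⟨⟨_, x, rfl⟩, -⟩ := x
    refine Subtype.ext (Subtype.ext ?_)
    change (Abelianization.of x ^ m) ^ r ^ k = 1
    rw [← pow_mul, mul_comm, ← e, ← map_pow, pow_card_eq_one', map_one]⟩, fun c' => c (topEquiv.isCyclic.1 c')⟩ _
      π.rangeRestrict_surjective)
  obtain ⟨x, hx⟩ := exists_prime_orderOf_dvd_card' r (h.of_hom π.rangeRestrict)
  rw [← orderOf_coe] at hx
  refine hn.1 (hx ▸ orderOf_dvd_natCard _ (Abelianization.ker_of X ▸ (?_ : Abelianization.of x.1 = 1)))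
  have h2 : Abelianization.of x.1 ^ m = 1 := congrArg Subtype.val x.2
  have h3 : Abelianization.of x.1 ^ r = 1 := by rw [← map_pow, ← hx, pow_orderOf_eq_one, map_one]
  exact orderOf_eq_one_iff.1 (Nat.eq_one_of_dvd_coprimes (hr.coprime_iff_not_dvd.2 hm) (orderOf_dvd_of_pow_eq_one h3)
    (orderOf_dvd_of_pow_eq_one h2))

theorem exists_key [Finite X] (h : ¬ IsCyclic X) : ∃ r, r.Prime ∧ Key r X := by
  by_cases h1 : Nat.card (commutator X) = 1
  · by_contra! hn
    have : IsZGroup X := ⟨fun r hr P => by_contra fun c => hn r hr (NCy.key hr ⟨_, P.isPGroup', c⟩)⟩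
    have h2 : center X = ⊤ := (commutator_eq_bot_iff_center_eq_top X).1 (card_eq_one.1 h1)
    let _ : CommGroup X := { ‹Group X› with mul_comm := fun a b => mem_center_iff.1 (h2.ge trivial) a }
    exact h inferInstance
  · obtain ⟨r, hr, e⟩ := Nat.exists_prime_and_dvd h1
    exact ⟨r, hr, key_of_commutator e⟩

/-- The key primes of the subgroups of `X`. -/
theorem Key.dvd_sub [Finite X] {K : Subgroup X} (hr : r.Prime) (h : Key r K) :
    r ∣ Nat.card (commutator X) ∨ NCy r X :=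
  (h.dvd hr).imp (fun e => e.trans (card_dvd_of_injective ((K.subtype.comp (Subgroup.subtype _)).codRestrict _ fun x =>
    (map_commutator_eq K K.subtype).le ⟨_, x.2, rfl⟩ |> commutator_mono le_top le_top)
    fun _ _ h => Subtype.ext (Subtype.ext (congrArg (fun z : commutator X => z.1) h))))
    fun e => e.inj K.subtype K.subtype_injective

theorem conj1_of_not_ncy [Finite G] (hs : s.Prime) (h : ¬ NCy s G) : Conj1 G s := fun a b ha hb => by
  have := Fact.mk hs
  have key : ∀ x : G, orderOf x = s → ∃ T : Sylow s G, x ∈ (T : Subgroup G) := fun x hx =>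
    (IsPGroup.exists_le_sylow (P := zpowers x) (.of_card (n := 1) (by rw [Nat.card_zpowers, hx, pow_one]))).imp
      fun _ h => h (mem_zpowers x)
  obtain ⟨A, hA⟩ := key a ha
  obtain ⟨B, hB⟩ := key b hb
  obtain ⟨c, rfl⟩ := MulAction.exists_smul_eq G B A
  have : IsCyclic ((c • B : Sylow s G) : Subgroup G) := by_contra fun e => h ⟨_, (c • B).isPGroup', e⟩
  obtain ⟨k, hk⟩ := mem_zpowers_of_orderOf_eq (C := ((c • B : Sylow s G) : Subgroup G)) hs (a := ⟨a, hA⟩)
    (b := ⟨c * b * c⁻¹, b, hB, rfl⟩) (by rwa [orderOf_mk]) ((orderOf_mk _ _).trans ((CL.Cls.orderOf_conj_eq c b).trans hb))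
  exact ⟨c, k, congrArg Subtype.val hk⟩

theorem OutC.of_equiv (e : X ≃* Y) (h : OutC Y s) : OutC X s := fun y hy => mem_center_iff.2 fun x =>
  e.injective (by simpa using mem_center_iff.1 (h (e y) (by rwa [e.orderOf_eq])) (e x))

/-- Elements of order `s` are central if the commutator subgroup lies in a small normal subgroup. -/
theorem OutC.of_hom [Finite X] (hs : s.Prime) {A : Type*} [CommGroup A] (π : X →* A) (h : Nat.card π.ker < s) :
    OutC X s := fun y hy => mem_center_iff.2 fun x => by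
  have h1 : ∀ n ∈ π.ker, Commute y n := fun n hn => by
    have h2 : orderOf (MulAction.toPermHom _ π.ker (MulAut.conjNormal (H := π.ker) y)) = 1 := by
      refine Nat.eq_one_of_dvd_coprimes (Nat.Coprime.symm ((hs.coprime_iff_not_dvd).2 fun e =>
        h.not_ge (hs.dvd_factorial.1 e))) ?_ (hy ▸ (orderOf_map_dvd _ _).trans (orderOf_map_dvd _ _))
      rw [← Nat.card_perm]; exact orderOf_dvd_natCard _
    have h3 : y * n * y⁻¹ = n := congrArg Subtype.val (DFunLike.congr_fun (orderOf_eq_one_iff.1 h2) (⟨n, hn⟩ : π.ker))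
    exact mul_inv_eq_iff_eq_mul.1 h3
  have h3 : y⁻¹ * (x * y * x⁻¹) ∈ π.ker := by simp [MonoidHom.mem_ker, mul_comm]
  have h4 := (h1 _ h3).mul_pow s
  rw [mul_inv_cancel_left, conj_pow, ← hy, pow_orderOf_eq_one, mul_one, mul_inv_cancel, one_mul, hy] at h4
  have h5 := Nat.eq_one_of_dvd_coprimes (Nat.coprime_of_lt_prime Nat.card_pos.ne' h hs)
    (orderOf_dvd_of_pow_eq_one h4.symm) (orderOf_dvd_natCard _ h3)
  rw [orderOf_eq_one_iff, inv_mul_eq_one] at h5
  exact mul_inv_eq_iff_eq_mul.1 h5.symm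

theorem OutC.of_prod (hs : s.Prime) {C : Type*} [CommGroup C] (e : X ≃* Y × C) (h : ¬ s ∣ Nat.card Y) : OutC X s :=
  .of_equiv e fun y hy => mem_center_iff.2 fun x => by
    have h1 : y.1 = 1 := orderOf_eq_one_iff.1 (Nat.eq_one_of_dvd_coprimes (hs.coprime_iff_not_dvd.2 h)
      (hy ▸ orderOf_map_dvd (MonoidHom.fst Y C) y) (orderOf_dvd_natCard _))
    exact Prod.ext (by simp [h1]) (mul_comm _ _)

/-- Transport of a group of automorphisms. -/
theorem exists_transport (e : S ≃* S') {H : Subgroup (MulAut S)} (h : Inn S ≤ H) : ∃ H' : Subgroup (MulAut S'),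
    Inn S' ≤ H' ∧ Nonempty (H ≃* H') ∧ Nonempty (Img H ≃* Img H') := by
  refine ⟨H.map (MulAut.congr e).toMonoidHom, ?_, ⟨(MulAut.congr e).subgroupMap H⟩,
    ⟨((CL.Cls.outCongr e).subgroupMap _).trans (MulEquiv.subgroupCongr ?_)⟩⟩
  · rintro _ ⟨g, rfl⟩
    exact ⟨MulAut.conj (e.symm g), h ⟨_, rfl⟩, by ext x; simp⟩
  · rw [map_map, Img, map_map]; rfl

theorem AdjAt.of_equiv (e : S ≃* S') (h : AdjAt S' r s) : AdjAt S r s := fun _ a b =>
  let ⟨H', c, ⟨f⟩, ⟨g⟩⟩ := exists_transport e a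
  (h H' c (b.of_equiv g)).inj f.symm.toMonoidHom f.symm.injective

theorem Star.of_equiv (e : S ≃* S') (h : Star S') : Star S := fun _ a r hr b =>
  let ⟨H', c, ⟨f⟩, ⟨g⟩⟩ := exists_transport e a
  (h H' c r hr (b.of_equiv g)).imp (fun h => Nat.card_congr e.toEquiv ▸ h) fun h s hs x y =>
    (h s hs x (Nat.card_congr f.toEquiv ▸ y)).inj f.symm.toMonoidHom f.symm.injective

/-- An automorphism of order `s` fixing an element of order `t` whose class in `Out S` meets the image of `H`. -/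
theorem adj_of_conj [Finite S] (hZ : center S = ⊥) (hs : s.Prime) (ht : t.Prime) (hst : s ≠ t) {φ : MulAut S}
    (h1 : orderOf φ = s) (h2 : t ∣ Nat.card (Fix φ)) {H : Subgroup (MulAut S)} (hH : Inn S ≤ H)
    (h : ∃ c : Out S, c * φ * c⁻¹ ∈ Img H) : Adj H s t := by
  have := Fact.mk ht
  obtain ⟨y, hy⟩ := exists_prime_orderOf_dvd_card' t h2
  obtain ⟨c, x, hx, e⟩ := h
  obtain ⟨c, rfl⟩ := QuotientGroup.mk_surjective c
  have h5 : x⁻¹ * (c * φ * c⁻¹) ∈ Inn S := QuotientGroup.eq.1 e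
  have h6 : c * φ * c⁻¹ ∈ H := by simpa using mul_mem hx (hH h5)
  refine .of_commute hs ht hst (x := ⟨_, h6⟩) (y := ⟨MulAut.conj (c y), hH ⟨_, rfl⟩⟩) (Subtype.ext ?_) ?_ ?_
  · refine (commute_conj_of_fix ?_).symm.eq
    simp [show φ y = y from y.2]
  · rw [orderOf_mk, ← h1, CL.Cls.orderOf_conj_eq]
  · rw [orderOf_mk, orderOf_injective _ (conj_injective hZ), MulEquiv.orderOf_eq, orderOf_coe, hy]

theorem adjAt_of_fix [Finite S] (hZ : center S = ⊥) (hr : r.Prime) (hs : s.Prime) (hrs : r ≠ s) (hc : Conj1 (Out S) r)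
    (h : ∃ φ : MulAut S, orderOf φ = r ∧ s ∣ Nat.card (Fix φ)) : AdjAt S r s := fun H hH k => by
  have := Fact.mk hr
  obtain ⟨φ, h1, h2⟩ := h
  refine adj_of_conj hZ hr hs hrs h1 h2 hH ?_
  by_cases h3 : (φ : Out S) = 1
  · exact ⟨1, by simp [h3]⟩
  obtain ⟨x, hx⟩ := exists_prime_orderOf_dvd_card' r k.dvd_card
  obtain ⟨c, n, hn⟩ := hc x φ (by rwa [orderOf_coe])
    (orderOf_eq_prime (by rw [← QuotientGroup.mk_pow, ← h1, pow_orderOf_eq_one]; rfl) h3)
  exact ⟨c, hn ▸ zpow_mem x.2 n⟩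

theorem exists_of_ncy {C D : Type*} [Group C] [Group D] [IsCyclic C] [IsCyclic D] {Q : Subgroup X}
    (h : IsPGroup 2 Q) (h' : ¬ IsCyclic Q) {x : X} (hx : x ^ 2 = 1) (f : X →* C) (g : X →* D)
    (hfg : ∀ u, f u = 1 → g u = 1 → u = 1) : ∃ u ∈ Q, f u = 1 ∧ g u = g x := by
  have := Fact.mk Nat.prime_two
  by_cases h0 : g x = 1
  · exact ⟨1, one_mem _, map_one _, by rw [h0, map_one]⟩
  obtain ⟨u, h1, h2⟩ : ∃ u : Q, f u = 1 ∧ u ≠ 1 := by
    by_contra! e
    exact h' (isCyclic_of_injective (f.comp Q.subtype) ((injective_iff_map_eq_one _).2 e))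
  have h3 := orderOf_pow_orderOf_div (h.isOfFinOrder two_ne_zero u).orderOf_pos.ne' (h.dvd_orderOf h2)
  set v := u ^ (orderOf u / 2)
  have h4 : f v = 1 := by simp [v, h1]
  obtain ⟨k, hk⟩ := mem_zpowers_of_orderOf_eq Nat.prime_two (a := g v) (b := g x)
    (orderOf_eq_prime (by rw [← map_pow, ← coe_pow, ← h3, pow_orderOf_eq_one]; simp) fun e => by
      rw [show v = 1 from Subtype.ext (hfg _ h4 e)] at h3; simp at h3)
    (orderOf_eq_prime (by rw [← map_pow, hx, map_one]) h0)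
  exact ⟨v ^ k, zpow_mem v.2 k, by simp [h4], by simpa using hk⟩

theorem mem_of_ncy {A B : Type*} [Group A] [Group B] [IsCyclic A] [IsCyclic B] {Q : Subgroup (A × B)}
    (h : IsPGroup 2 Q) (h' : ¬ IsCyclic Q) {x : A × B} (hx : x ^ 2 = 1) : x ∈ Q := by
  obtain ⟨u, a1, a2, a3⟩ := exists_of_ncy h h' hx (MonoidHom.fst A B) (MonoidHom.snd A B) fun _ a b => Prod.ext a b
  obtain ⟨v, b1, b2, b3⟩ := exists_of_ncy h h' hx (MonoidHom.snd A B) (MonoidHom.fst A B) fun _ a b => Prod.ext b a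
  convert mul_mem a1 b1
  exact Prod.ext (by rw [Prod.fst_mul, show u.1 = 1 from a2, one_mul]; exact b3.symm)
    (by rw [Prod.snd_mul, show v.2 = 1 from b2, mul_one]; exact a3.symm)

/-- If `X` maps to a product of two cyclic groups with kernel of odd order, then a subgroup with key prime `2` meets
every class of involutions. -/
theorem conj_mem_of_key [Finite X] {A B : Type*} [Group A] [Group B] [IsCyclic A] [IsCyclic B] (φ : X →* A × B)
    (h : ¬ 2 ∣ Nat.card φ.ker) {K : Subgroup X} (hK : Key 2 K) {γ : X} (hγ : γ ^ 2 = 1) : ∃ c, c * γ * c⁻¹ ∈ K := by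
  have := Fact.mk Nat.prime_two
  let _ := IsCyclic.commGroup (α := A)
  let _ := IsCyclic.commGroup (α := B)
  obtain ⟨Q, a, b⟩ := (hK.dvd Nat.prime_two).resolve_left fun e => h (e.trans (card_dvd_of_injective
    ((K.subtype.comp (Subgroup.subtype _)).codRestrict _ fun x =>
      Abelianization.commutator_subset_ker (φ.comp K.subtype) x.2)
    fun _ _ h => Subtype.ext (Subtype.ext (congrArg (fun z : φ.ker => z.1) h))))
  obtain ⟨T, hT⟩ := (a.map K.subtype).exists_le_sylow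
  obtain ⟨U, hU⟩ := IsPGroup.exists_le_sylow (p := 2) (P := zpowers γ) fun ⟨_, k, hk⟩ => ⟨1, Subtype.ext (by
    simp only [← hk, pow_one, coe_pow, coe_one]; rw [← zpow_natCast, ← zpow_mul, mul_comm, zpow_mul, zpow_natCast, hγ, one_zpow])⟩
  obtain ⟨c, rfl⟩ := MulAction.exists_smul_eq X U T
  have h1 : ∀ x ∈ ((c • U : Sylow 2 X) : Subgroup X), φ x = 1 → x = 1 := fun x hx e => by_contra fun h0 =>
    h (((c • U).isPGroup'.dvd_orderOf (g := ⟨x, hx⟩) fun e => h0 (congrArg Subtype.val e)).trans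
      ((orderOf_mk _ _).dvd.trans (orderOf_dvd_natCard φ.ker e)))
  obtain ⟨x, hx, e⟩ := mem_of_ncy (Q := Q.map (φ.comp K.subtype)) (a.map _) (fun c' => b (isCyclic_of_injective
    ((φ.comp K.subtype).subgroupMap Q) ((injective_iff_map_eq_one _).2 fun x e => Subtype.ext (Subtype.ext
      (h1 _ (hT ⟨_, x.2, rfl⟩) (congrArg Subtype.val e)))))) (x := φ (c * γ * c⁻¹)) (by
    rw [← map_pow, conj_pow, hγ]; simp)
  have h2 := h1 ((x : X)⁻¹ * (c * γ * c⁻¹)) (mul_mem (inv_mem (hT ⟨_, hx, rfl⟩)) ⟨γ, hU (mem_zpowers γ), rfl⟩)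
    (by rw [map_mul, ← e]; simp)
  exact ⟨c, inv_mul_eq_one.1 h2 ▸ x.2⟩

/-- The Frattini argument for a prime with cyclic Sylow subgroups. -/
theorem adjAt_of_conj1 [Finite S] (hZ : center S = ⊥) (hr : r.Prime) (hs : s.Prime) (hrs : r ≠ s) (h : s ∣ Nat.card S)
    (hc : Conj1 S s) : AdjAt S r s := fun H hH k => by
  have := Fact.mk hr
  have := Fact.mk hs
  obtain ⟨x, hx⟩ := exists_prime_orderOf_dvd_card' s h
  let y : H := ⟨MulAut.conj x, hH ⟨_, rfl⟩⟩
  have hy : orderOf y = s := by rw [orderOf_mk, orderOf_injective _ (conj_injective hZ), hx]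
  have h1 : IsCyclic (MulAut (zpowers y)) := by
    rw [(IsCyclic.mulAutMulEquiv _).isCyclic, Nat.card_zpowers, hy]; infer_instance
  have h2 := (k.of_surj (((QuotientGroup.mk' _).subgroupMap H).comp (normalizer (zpowers y : Set H)).subtype) (by
    rintro ⟨_, α, hα, rfl⟩
    obtain ⟨c, n, hn⟩ := hc x (α x) hx (by rw [MulEquiv.orderOf_eq, hx])
    refine ⟨⟨⟨MulAut.conj c * α, mul_mem (hH ⟨_, rfl⟩) hα⟩, mem_normalizer_fintype (S := (zpowers y : Set H)) ?_⟩,
      Subtype.ext (QuotientGroup.eq.2 (by simpa [mul_assoc] using (Inn S).inv_mem ((innNormal S).conj_mem' _ ⟨c, rfl⟩ α)))⟩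
    rintro _ ⟨m, rfl⟩
    rw [← conj_zpow]
    refine zpow_mem (⟨n, Subtype.ext ?_⟩ : _ ∈ zpowers y) m
    simp only at hn
    ext g
    simp [y, ← map_zpow, hn, mul_assoc])).of_hom (zpowers y).normalizerMonoidHom
  obtain ⟨z, hz⟩ := exists_prime_orderOf_dvd_card' r h2
  have h3 := (normalizerMonoidHom_ker _).le z.2
  exact .of_commute hr hs hrs (h3 y (mem_zpowers y)).symm ((orderOf_coe _).trans ((orderOf_coe _).trans hz)) hy

theorem card_dvd_img [Finite S] (H : Subgroup (MulAut S)) : Nat.card H ∣ Nat.card (Img H) * Nat.card S := by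
  let f := (QuotientGroup.mk' (Inn S)).subgroupMap H
  rw [← f.ker.index_mul_card, index_ker, MonoidHom.range_eq_top.2 ((QuotientGroup.mk' _).subgroupMap_surjective H), card_top]
  refine Nat.mul_dvd_mul_left _ ((card_dvd_of_injective ((H.subtype.comp f.ker.subtype).codRestrict (Inn S) fun x =>
    (QuotientGroup.eq_one_iff _).1 (congrArg Subtype.val x.2)) fun _ _ h =>
      Subtype.ext (Subtype.ext (congrArg (fun z : Inn S => z.1) h))).trans ?_)
  exact card_dvd_of_surjective _ MulAut.conj.rangeRestrict_surjective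

/-- The abstract reduction. -/
theorem star_of [Finite S] (hZ : center S = ⊥) (hK : ∀ r, r.Prime → ∀ K : Subgroup (Out S), Key r K → P r)
    (hr : ∀ r, r.Prime → P r → r ∣ Nat.card S) (hO : ∀ s, s.Prime → ¬ s ∣ Nat.card S → OutC (Out S) s)
    (hD : ∀ r s, r.Prime → s.Prime → s ≠ r → P r → NCy s S → AdjAt S r s) : Star S := fun H hH r a k =>
  ⟨hr r a (hK r a _ k), fun s b c e => by
    have := Fact.mk a
    have := Fact.mk b
    by_cases h1 : s ∣ Nat.card S
    · by_cases h2 : NCy s S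
      · exact hD r s a b c (hK r a _ k) h2 H hH k
      · exact adjAt_of_conj1 hZ a b c.symm h1 (conj1_of_not_ncy b h2) H hH k
    obtain ⟨x, hx⟩ := exists_prime_orderOf_dvd_card' r k.dvd_card
    obtain ⟨y, hy⟩ := exists_prime_orderOf_dvd_card' s ((b.dvd_mul.1 (e.trans (card_dvd_img H))).resolve_right h1)
    exact (Adj.of_commute a b c.symm (Subtype.ext (mem_center_iff.1 (hO s b h1 y (by rwa [orderOf_coe])) x)) hx hy).surj _
      ((QuotientGroup.mk' _).subgroupMap_surjective H)⟩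

/-- The reduction to the small primes. -/
theorem star_of_tor [Finite S] (hZ : center S = ⊥) (hT : Tor p q d S)
    (hK : ∀ r, r.Prime → ∀ K : Subgroup (Out S), Key r K → P r)
    (hr : ∀ r, r.Prime → P r → r ∣ Nat.card S ∧ (r = 2 ∨ r = p ∨ r ∣ q ^ 2 - 1))
    (hO : ∀ s, s.Prime → ¬ s ∣ Nat.card S → OutC (Out S) s)
    (hD : ∀ r s, r.Prime → s.Prime → s ≠ r → P r → (s = 2 ∨ s = p ∨ s ∣ d) → AdjAt S r s) : Star S :=
  star_of hZ hK (fun r a b => (hr r a b).1) hO fun r s a b c e f => by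
    by_cases h : s = 2 ∨ s = p ∨ s ∣ d
    · exact hD r s a b c e h
    · rw [not_or, not_or] at h
      exact adjAt_of_adj hZ ((hT s b h.1 h.2.1 f).resolve_left h.2.2 r a c.symm (hr r a e).2)

theorem star_of_cyclic (h : IsCyclic (Out S)) : Star S := fun _ _ _ a k => (k.not_of_cyclic a).elim

/-- `3` is the characteristic or divides `q ^ 2 - 1`. -/
theorem three_dvd (h : ¬ 3 ∣ q) : 3 ∣ q ^ 2 - 1 := by
  obtain ⟨k, rfl | rfl⟩ : ∃ k, q = 3 * k + 1 ∨ q = 3 * k + 2 := ⟨q / 3, by omega⟩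
  · exact ⟨3 * k ^ 2 + 2 * k, Nat.sub_eq_of_eq_add (by ring)⟩
  · exact ⟨3 * k ^ 2 + 4 * k + 1, Nat.sub_eq_of_eq_add (by ring)⟩

end CL.NCO
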