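/-
Project NCO (S4185): reduction of the general case to the almost simple case.
-/
import Cfsg.Agent.NCO.Star
import Cfsg.Agent.Grp.FrobPartition

set_option autoImplicit false

namespace CL.NCO

open Cfsg CL.PQ CL.LocBal Subgroup

variable {G S X : Type*} [Group G] [Group S] [Group X] {r s : ℕ}

theorem Key.ncy_two [Finite X] (h : Key 2 X) : NCy 2 X := by
  have := Fact.mk Nat.prime_two
  let P : Sylow 2 X := default
  refine ⟨P, P.isPGroup', fun c => P.not_dvd_index ?_⟩
  have h1 : (Nat.card X).minFac = 2 := (Nat.minFac_eq_two_iff _).2 h.dvd_card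
  rw [(c.isComplement' h1).index_eq_card]
  exact h.of_hom _

theorem ncy_of_dvd [Finite S] (hZ : center S = ⊥) (hS : commutator S = ⊤) (hr : r.Prime) {A : Subgroup (MulAut S)}
    (hA : Inn S ≤ A) (h1 : r ∣ Nat.card S) (h2 : r ∣ Nat.card (Img A)) : NCy r A := by
  have := Fact.mk hr
  obtain ⟨x, hx⟩ := exists_prime_orderOf_dvd_card' r h2
  let M := (zpowers x.1).comap (QuotientGroup.mk' (Inn S))
  have h3 : M ≤ A := by
    rintro α ⟨k, hk⟩
    obtain ⟨β, b1, b2⟩ := zpow_mem x.2 k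
    simpa using mul_mem b1 (hA (QuotientGroup.eq.1 (b2.trans hk)))
  let P : Sylow r M := default
  refine NCy.inj ⟨P, P.isPGroup', fun c => P.not_dvd_card_commutator_or_not_dvd_index_commutator.elim (· ?_) (· ?_)⟩ _
    (inclusion_injective h3)
  · let f : S →* M := MulAut.conj.codRestrict M fun g => by
      rw [mem_comap, QuotientGroup.mk'_apply, (QuotientGroup.eq_one_iff (N := Inn S) _).2 ⟨g, rfl⟩]; exact one_mem _
    exact h1.trans (card_dvd_of_injective (f.codRestrict (commutator M) fun g =>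
      (map_commutator_eq S f).le ⟨g, hS.ge trivial, rfl⟩ |> commutator_mono le_top le_top)
      fun _ _ e => conj_injective hZ (congrArg (fun z : commutator M => z.1.1) e))
  · let f : M →* zpowers x.1 := (QuotientGroup.mk' (Inn S)).subgroupComap _
    let _ := IsCyclic.commGroup (α := zpowers x.1)
    refine Dvd.dvd.trans ?_ (index_dvd_of_le (Abelianization.commutator_subset_ker f))
    rw [index_ker, MonoidHom.range_eq_top.2 ((QuotientGroup.mk' _).subgroupComap_surjective_of_surjective _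
      (QuotientGroup.mk'_surjective _)), card_top, Nat.card_zpowers, orderOf_coe, hx]

theorem main_of [Finite G] [Finite S] (hZ : center S = ⊥) (hS : commutator S = ⊤) (h : Star S) (ψ : G →* MulAut S)
    (h1 : Inn S ≤ ψ.range) (hK : Group.IsNilpotent ψ.ker) {H : Subgroup G} [H.Normal] (hH : (Inn S).comap ψ = H)
    (hc : ¬ IsCyclic (G ⧸ H)) : ∃ r : ℕ, r.Prime ∧ r ∣ Nat.card (G ⧸ H) ∧
      ∀ s : ℕ, s.Prime → s ∣ Nat.card G → s ≠ r → Adj G r s := by
  obtain ⟨r, hr, k⟩ := exists_key hc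
  have := Fact.mk hr
  have e : G ⧸ H ≃* Img ψ.range := ((QuotientGroup.quotientMulEquivOfEq (by
    rw [← MonoidHom.comap_ker, QuotientGroup.ker_mk', hH])).trans
      (QuotientGroup.quotientKerEquivRange ((QuotientGroup.mk' (Inn S)).comp ψ))).trans
        (MulEquiv.subgroupCongr (MonoidHom.range_comp _ _))
  obtain ⟨h2, h3⟩ := h _ h1 r hr (k.of_equiv e)
  refine ⟨r, hr, k.dvd_card, fun s hs a b => ?_⟩
  have := Fact.mk hs
  rw [← ψ.ker.index_mul_card, index_ker, hs.dvd_mul] at a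
  refine a.elim (fun a => (h3 s hs b a).surj _ ψ.rangeRestrict_surjective) fun a => by_contra fun hn => ?_
  let P : Sylow s ψ.ker := default
  have := P.characteristic_of_normal inferInstance
  have h4 : ∀ R : Sylow r G, r = 2 ∧ ∃ a : R, (zpowers a).index = 2 := fun R => by
    refine (CL.Grp.isCyclic_or_quaternion_of_forall_ea R.isPGroup' fun E e1 e2 => ?_).elim (fun c => absurd c
      ((NCy.surj hr (ncy_of_dvd hZ hS hr h1 h2 (k.of_equiv e).dvd_card) _ ψ.rangeRestrict_surjective).sylow R))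
      fun ⟨c, _, a, _, d, _⟩ => ⟨c, a, d.index⟩
    have := e1.1
    have h5 := CL.Grp.isCyclic_of_fpf (A := E.map R.1.subtype) (K := P.1.map ψ.ker.subtype) (fun c => P.ne_bot_of_dvd_card a
      ((map_eq_bot_iff_of_injective _ (subtype_injective _)).1 c)) ((normalizer_eq_top _).ge.trans' le_top) (by
        rintro _ ⟨x, x1, rfl⟩ x2
        refine eq_bot_iff.2 fun _ ⟨⟨v, v1, v2⟩, v3⟩ => by_contra fun v4 => hn ?_
        subst v2
        have v5 : s ∣ orderOf (v : G) := ((orderOf_coe v).trans (orderOf_mk v v1).symm).symm ▸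
          P.isPGroup'.dvd_orderOf fun c => v4 (congrArg (fun z : P => z.1.1) c)
        exact .of_commute hr hs b.symm (Commute.pow_right (mem_centralizer_singleton_iff.1 v3).symm _)
          (orderOf_eq_prime (congrArg Subtype.val (e1.2 x x1)) x2) (orderOf_pow_orderOf_div (orderOf_pos _).ne' v5))
      (.inl inferInstance)
    have h6 := ((E.equivMapOfInjective _ R.1.subtype_injective).isCyclic.2 h5).exponent_eq_card
    have h7 := Nat.le_of_dvd hr.pos (Monoid.exponent_dvd_of_forall_pow_eq_one fun x : E => Subtype.ext (e1.2 x x.2))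
    rw [h6, e2] at h7
    nlinarith [hr.two_le]
  obtain ⟨rfl, -⟩ := h4 default
  obtain ⟨Q, q1, q2⟩ : NCy 2 H := by
    subst hH
    exact ((key_of_commutator (X := S) (by rwa [hS, card_top])).ncy_two.inj _
      (MonoidHom.rangeRestrict_injective_iff.2 (conj_injective hZ))).surj hr (ψ.subgroupComap (Inn S))
        fun ⟨_, x⟩ => let ⟨g, e⟩ := h1 x; ⟨⟨g, show ψ g ∈ Inn S from e.symm ▸ x⟩, Subtype.ext e⟩
  obtain ⟨R, hR⟩ := (q1.map H.subtype).exists_le_sylow
  obtain ⟨-, a, ha⟩ := h4 R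
  let f : Q →* R := (H.subtype.comp Q.subtype).codRestrict _ fun x => hR ⟨_, x.2, rfl⟩
  obtain ⟨y, hy⟩ : ∃ y, f y ∉ zpowers a := by
    by_contra! c
    exact q2 (isCyclic_of_injective (f.codRestrict _ c) fun _ _ e =>
      Subtype.ext (Subtype.ext (congrArg (fun z : zpowers a => z.1.1) e)))
  refine k.ncy_two.sylow (R.mapSurjective (QuotientGroup.mk'_surjective H)) ⟨⟨⟨_, a, a.2, rfl⟩, ?_⟩⟩
  rintro ⟨_, g, hg, rfl⟩
  obtain ⟨i, c | c⟩ := CL.Grp.exists_zpow_or_of_index_two ha hy ⟨g, hg⟩ <;> refine ⟨i, Subtype.ext ?_⟩ <;>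
    obtain rfl : g = _ := congrArg Subtype.val c
  · simp; rfl
  · simp [f]; rfl

theorem result_of [Finite G] (K H : Subgroup G) [K.Normal] [H.Normal] (hKH : K ≤ H) (hK : Group.IsNilpotent K)
    (hS : IsSimpleGroup (H ⧸ K.subgroupOf H)) (h : Star (H ⧸ K.subgroupOf H))
    (hC : centralizer ((H.map (QuotientGroup.mk' K) : Subgroup (G ⧸ K)) : Set (G ⧸ K)) = ⊥) (hc : ¬ IsCyclic (G ⧸ H)) :
    ∃ r : ℕ, r.Prime ∧ r ∣ Nat.card (G ⧸ H) ∧ ∀ s : ℕ, s.Prime → s ∣ Nat.card G → s ≠ r → ∃ g : G, orderOf g = r * s := by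
  have := Subgroup.Normal.map ‹H.Normal› _ (QuotientGroup.mk'_surjective K)
  have e : H ⧸ K.subgroupOf H ≃* H.map (QuotientGroup.mk' K) := ((QuotientGroup.quotientMulEquivOfEq (by
    rw [← MonoidHom.comap_ker, QuotientGroup.ker_mk']; rfl)).trans
      (QuotientGroup.quotientKerEquivRange ((QuotientGroup.mk' K).comp H.subtype))).trans
        (MulEquiv.subgroupCongr (by rw [MonoidHom.range_comp, range_subtype]))
  have h1 : ∀ x : G ⧸ K, MulAut.conjNormal (H := H.map (QuotientGroup.mk' K)) x = 1 → x = 1 := fun x c =>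
    mem_bot.1 (hC ▸ mem_centralizer_iff.2 fun y hy => by
      have : x * y * x⁻¹ = y := congrArg Subtype.val (DFunLike.congr_fun c (⟨y, hy⟩ : H.map (QuotientGroup.mk' K)))
      exact (mul_inv_eq_iff_eq_mul.1 this).symm)
  have h2 : center (H.map (QuotientGroup.mk' K)) = ⊥ := eq_bot_iff.2 fun z hz => Subtype.ext (mem_bot.1 (hC ▸
    mem_centralizer_iff.2 fun y hy => congrArg Subtype.val (mem_center_iff.1 hz ⟨y, hy⟩)))
  have := e.symm.isSimpleGroup
  let ψ := (MulAut.conjNormal (H := H.map (QuotientGroup.mk' K))).comp (QuotientGroup.mk' K)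
  have h3 : ψ.ker = K := ext fun g => ⟨fun c => (QuotientGroup.eq_one_iff _).1 (h1 _ c), fun c => by
    rw [MonoidHom.mem_ker, MonoidHom.comp_apply, QuotientGroup.mk'_apply, (QuotientGroup.eq_one_iff _).2 c, map_one]⟩
  refine main_of h2 ((this.eq_bot_or_eq_top_of_normal _ inferInstance).resolve_left fun c =>
    bot_ne_top (h2.symm.trans ((commutator_eq_bot_iff_center_eq_top _).1 c))) (h.of_equiv e.symm) ψ ?_ (h3.symm ▸ hK)
    (ext fun g => ⟨?_, fun c => ⟨⟨_, g, c, rfl⟩, MulEquiv.ext fun _ => rfl⟩⟩) hc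
  · rintro _ ⟨⟨_, g, hg, rfl⟩, rfl⟩
    exact ⟨g, MulEquiv.ext fun _ => rfl⟩
  · rintro ⟨⟨_, x, hx, rfl⟩, c⟩
    have h4 : x⁻¹ * g ∈ ψ.ker := by rw [MonoidHom.mem_ker, map_mul, map_inv, ← c, inv_mul_eq_one]; exact MulEquiv.ext fun _ => rfl
    exact mul_inv_cancel_left x g ▸ H.mul_mem hx (hKH (h3 ▸ h4))

end CL.NCO
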