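import Cfsg.Agent.NCO.Defs
import Cfsg.Agent.SB.MO

/-!
# Project NCO (S4185): models of the classical groups with parameters
-/

set_option autoImplicit false
set_option linter.unusedSectionVars false

namespace CL.NCO

namespace ModC

section Ctr

open CL.Chev Matrix Finset

variable {ι Φ κ : Type} [Fintype ι] [DecidableEq ι] [Fintype κ] {M : Type*} [CommGroup M]

/-- The values of the characters in the lattice on a torus element. -/
def lam (E : Eucl ι Φ κ) (z : ι → M) : (κ → ℤ) →ₗ[ℤ] Additive M where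
  toFun v := ∑ i, (E.cvec (E.simple i) ⬝ᵥ v) • Additive.ofMul (z i)
  map_add' v w := by simp [add_smul, sum_add_distrib]
  map_smul' c v := by simp only [dotProduct_smul, smul_assoc, smul_sum, RingHom.id_apply]

theorem lam_apply (E : Eucl ι Φ κ) (z : ι → M) (v : κ → ℤ) :
    lam E z v = ∑ i, (E.cvec (E.simple i) ⬝ᵥ v) • Additive.ofMul (z i) := rfl

theorem lam_root (E : Eucl ι Φ κ) {z : ι → M} {r : Φ} (h : E.rs.chi M r z = 1) : lam E z (E.vec r) = 0 := by
  have := congrArg Additive.ofMul h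
  simpa only [lam_apply, RS.chi_apply, ofMul_prod, ofMul_zpow, ofMul_one, E.pair_eq, E.simple_eq] using this

theorem smul_lin [DecidableEq κ] {N : Type*} [AddCommGroup N] {l : (κ → ℤ) →ₗ[ℤ] N} {d : ℕ}
    (h : ∀ a, d • l (Pi.single a 1) = 0) (v : κ → ℤ) : d • l v = 0 := by
  rw [pi_eq_sum_univ' v, map_sum, smul_sum]
  exact sum_eq_zero fun a _ => by rw [map_smul, smul_comm, h, smul_zero]

theorem ctr_A {n : ℕ} {z : Fin n → M} (h : ∀ r, (euclA n).rs.chi M r z = 1) : z ^ (n + 1) = 1 := by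
  have h1 : ∀ a b : Fin (n + 1), lam (euclA n) z (Pi.single b 1) = lam (euclA n) z (Pi.single a 1) := fun a b => by
    by_cases e : b = a
    · rw [e]
    · have := lam_root (euclA n) (h ⟨(b, a), e⟩)
      rwa [show (euclA n).vec ⟨(b, a), e⟩ = Pi.single b 1 - Pi.single a 1 from rfl, map_sub, sub_eq_zero] at this
  have h0 : ∀ i, (euclA n).cvec ((euclA n).simple i) = aVec i := fun _ => rfl
  have h2 : lam (euclA n) z 1 = 0 := by simp only [lam_apply, h0, aVec_one, zero_smul, sum_const_zero]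
  funext i
  have h3 := smul_lin (d := n + 1) (l := lam (euclA n) z) (fun a => by
    rw [← h2, ← univ_sum_single (1 : Fin (n + 1) → ℤ), map_sum]
    simp [h1 a]) (tailVec i)
  simp only [lam_apply, h0, aVec_tail, ite_smul, one_smul, zero_smul, sum_ite_eq', mem_univ, if_true] at h3
  exact Additive.ofMul.injective (by simpa using h3)

theorem ctr_K {k : ℤ} (hk : k = 0 ∨ k = 1 ∨ k = 2) {n : ℕ} {z : Option (Fin (n + 1)) → M}
    (h : ∀ r, (euclK hk n).rs.chi M r z = 1) : z ^ 4 = 1 := by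
  have h1 := smul_lin (d := 2) (l := lam (euclK hk n) z) fun a => by
    obtain ⟨b, e⟩ := exists_ne a
    have e1 := lam_root _ (h (EuclK.mid k (a := .inl a) (b := .inl b) (by simp [eps_dot, e.symm])))
    have e2 := lam_root _ (h (EuclK.mid k (a := .inl a) (b := .inr b) (by simp [eps_dot, e.symm])))
    simp only [EuclK.vec_eq, EuclK.mid_val, eps, Sum.elim_inl, Sum.elim_inr, map_add, map_neg] at e1 e2
    linear_combination (norm := module) e1 + e2
  have h2 : 4 • Additive.ofMul (z none) = 0 := by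
    have := h1 1
    simp only [lam_apply, EuclK.cvec_simple, Fintype.sum_option, sVec, aVec_one, zero_smul, sum_const_zero,
      add_zero] at this
    rcases hk with rfl | rfl | rfl <;> norm_num [-zsmul_eq_mul] at this
    · linear_combination (norm := module) this
    · linear_combination (norm := module) this
    · linear_combination (norm := module) 2 • this
  funext i
  rcases i with _ | i
  · exact Additive.ofMul.injective (by simpa using h2)
  have h3 := h1 (tailVec i)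
  simp only [lam_apply, EuclK.cvec_simple, Fintype.sum_option, sVec, aVec_tail, ite_smul, one_smul, zero_smul,
    sum_ite_eq', mem_univ, if_true] at h3
  generalize _ ⬝ᵥ tailVec i = c at h3
  have h4 : 4 • Additive.ofMul (z (some i)) = 0 := by linear_combination (norm := module) 2 • h3 - c • h2
  exact Additive.ofMul.injective (by simpa using h4)

/-- The exponent of the finite centre divides `d`. -/
def ZD (R : RS ι Φ) (Ω : Type) [Field Ω] (ρ : Equiv.Perm Φ) (q d : ℕ) : Prop :=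
  ∀ z : ι → Ωˣ, (∀ s, R.chi Ωˣ s z = 1) → R.tAct ρ z ^ q = z → z ^ d = 1

variable {Ω : Type} [Field Ω] {n q : ℕ}

theorem zd_A1 (hq : 0 < q) : ZD (euclA n).rs Ω 1 q (Nat.gcd (n + 1) (q - 1)) := fun z h e =>
  pow_gcd_eq_one.2 ⟨ctr_A h, by
    rw [RS.tAct_one, ← Nat.sub_add_cancel hq, pow_succ] at e
    exact mul_eq_right.1 e⟩

theorem zd_A2 : ZD (euclA n).rs Ω (CL.YF.negP (euclA n).rs) q (Nat.gcd (n + 1) (q + 1)) := fun z h e =>
  pow_gcd_eq_one.2 ⟨ctr_A h, by
    have : (euclA n).rs.tAct (CL.YF.negP (euclA n).rs) z = z⁻¹ := funext fun k => by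
      rw [RS.tAct_apply, prod_eq_single k] <;>
        simp +contextual [RS.coroot_neg, RS.coroot_simple, eq_comm]
    rw [this, inv_pow] at e
    rw [pow_succ, ← eq_inv_iff_mul_eq_one, ← inv_eq_iff_eq_inv, e]⟩

theorem zd_K {k : ℤ} (hk : k = 0 ∨ k = 1 ∨ k = 2) {ρ : Equiv.Perm (PhiK k (n + 2))} : ZD (euclK hk n).rs Ω ρ q 4 :=
  fun _ h _ => ctr_K hk h

end Ctr

section Quot

open Cfsg CL.Chev CL.Chev.StSys CL.InvOdd CL.SB Subgroup

variable {ι Φ : Type} [Fintype ι] [DecidableEq ι] {R : RS ι Φ} {Ω : Type} [Field Ω] {G : Type} [Group G]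
  {S : StSys R Ω G} [Finite Φ] (r : ℕ) [Fact r.Prime] [CharP Ω r] [IsAlgClosed Ω] [Uncountable Ω] {q d : ℕ}

theorem mod_quot (irr : R.Irred) (g3 : G3 R) (A : S.AlgSys) (hA : A.Std) {τ : MulAut G} {φ : Ω ≃+* Ω}
    {ρ : Equiv.Perm Φ} {a : Φ → Ω} (I : S.Ind τ ρ φ a) (hq : 2 ≤ q) (hφ : ∀ t, φ t = t ^ q) (hq0 : r ∣ q)
    (hτ : A.IsFrob τ.toMonoidHom) {m : ℕ} (hm : m ≠ 0) (hτm : ∀ g, τ^[m] g = A.act (φ ^ m) g)
    (hρ : (∃ k, (Matrix.of R.cartan).det ∣ 2 ^ k) ∨ ρ * ρ ∈ R.W) (hd : ZD R Ω ρ q d) {Γ : Type*} [Group Γ]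
    (j : Γ →* G)
    (hj : Function.Injective j) (h1 : ∀ g, τ (j g) = j g) (h2 : ∀ g, τ g = g → (∃ n, g ^ r ^ n = 1) → g ∈ j.range) :
    Mod r q d (Γ ⧸ center Γ) := by
  have := finite_center A
  have hc : ∀ g, g ∈ center Γ ↔ j g ∈ center G := fun g =>
    ⟨fun h => central_of_commute A I hq hφ r hτ (h1 g) fun x hx hx' => by
      obtain ⟨x, rfl⟩ := h2 x hx hx'
      exact Commute.map (mem_center_iff.1 h x) j,
    fun h => mem_center_iff.2 fun x => hj (by simpa using mem_center_iff.1 h (j x))⟩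
  refine ⟨{ ι := ι, Φ := Φ, Ω := Ω, G := G ⧸ center G, R := R, irr := irr, g3 := g3, S := _, A := quotSys r A
            std := fun σ q hq hσ => finite_twisted_quot (hA σ q hq hσ)
            ctr := center_quot r A
            τ := qAut τ, ρ := ρ, f := fun _ => φ, c := a, Q := q ^ 2
            mon := Mon.ofInd ⟨I.aut, I.c_neg, fun s t => congrArg QuotientGroup.mk (I.map_x s t)⟩ hq hφ
            frob := ⟨hτ.comm.imp fun s hs => ⟨hs.1, fun ψ hψ g => QuotientGroup.induction_on g fun g =>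
              congrArg QuotientGroup.mk (hs.2 ψ hψ g)⟩, finite_twisted_quot hτ.fin⟩
            iter := ⟨m, q ^ m, φ ^ m, hq.trans (Nat.le_self_pow hm q), hq0.trans (dvd_pow_self q hm),
              ringEquiv_pow_apply hφ m, fun g => QuotientGroup.induction_on g fun g =>
                ((Function.Semiconj.iterate_right (f := (QuotientGroup.mk : G → G ⧸ center G)) (ga := τ) (gb := qAut τ)
                  (fun _ => rfl) m) g).symm.trans (congrArg QuotientGroup.mk (hτm g))⟩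
            good := hρ.imp_right fun h => ⟨I.aut, h, q, fun _ => hφ⟩
            j := QuotientGroup.map _ _ j fun g hg => (hc g).1 hg
            inj := (injective_iff_map_eq_one _).2 fun g hg => ?_
            fix := fun g => QuotientGroup.induction_on g fun g => congrArg QuotientGroup.mk (h1 g)
            unip := fun g e ⟨n, hn⟩ => ?_ }, I.aut, fun _ => hφ, hd⟩
  · induction g using QuotientGroup.induction_on with | H g =>
    exact (QuotientGroup.eq_one_iff g).2 ((hc g).2 ((QuotientGroup.eq_one_iff _).1 hg))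
  · induction g using QuotientGroup.induction_on with | H g =>
    obtain ⟨y, hy⟩ := Finite.surjective_of_injective (f := fun y : center G => y ^ r ^ n)
      (fun x y e => Subtype.ext (mul_inv_eq_one.1 (eq_one_of_center r A (mul_mem x.2 (inv_mem y.2)) (n := n) (by
        rw [Commute.mul_pow (mem_center_iff.1 (inv_mem y.2) _), inv_pow, mul_inv_eq_one]
        exact congrArg Subtype.val e)))) ⟨g ^ r ^ n, (QuotientGroup.eq_one_iff _).1 hn⟩
    have e1 : (g * (y : G)⁻¹) ^ r ^ n = 1 := by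
      rw [Commute.mul_pow (mem_center_iff.1 (inv_mem y.2) _), inv_pow, mul_inv_eq_one]
      exact (congrArg Subtype.val hy).symm
    have e2 : ((g * (y : G)⁻¹ : G) : G ⧸ center G) = g := QuotientGroup.mk_mul_of_mem g (inv_mem y.2)
    generalize g * (y : G)⁻¹ = g' at e1 e2
    rw [← e2] at e ⊢
    have e3 : g'⁻¹ * τ g' ∈ center G := QuotientGroup.eq.1 e.symm
    have e4 := Commute.mul_pow (mem_center_iff.1 e3 g') (r ^ n)
    rw [mul_inv_cancel_left, ← map_pow, e1, map_one, one_mul] at e4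
    obtain ⟨k, rfl⟩ := h2 g' (inv_mul_eq_one.1 (eq_one_of_center r A e3 e4.symm)).symm ⟨n, e1⟩
    exact ⟨k, rfl⟩

omit [Group G] in
open Matrix in
theorem mod_wrep {κ τ : Type} [Fintype κ] [Fintype τ] [DecidableEq τ] {E : Eucl ι Φ κ} (irr : E.rs.Irred)
    (g3 : G3 E.rs) {S : StSys E.rs Ω (GL τ Ω)} {w : τ → κ → ℤ} (h : E.WRep S w) (hq : 2 ≤ q) {φ : Ω ≃+* Ω}
    (hφ : ∀ t, φ t = t ^ q) (hq0 : r ∣ q) {ρ : Equiv.Perm Φ} {a : Φ → Ω}
    (hmap : ∀ (ψ : Ω ≃+* Ω) r t, GeneralLinearGroup.map (ψ : Ω →+* Ω) (S.x r t) = S.x r (ψ t)) {T : MulAut (GL τ Ω)}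
    (I : S.Ind T ρ φ a) (hT : ∀ (ψ : Ω ≃+* Ω) g,
      GeneralLinearGroup.map (ψ : Ω →+* Ω) (T g) = T (GeneralLinearGroup.map (ψ : Ω →+* Ω) g)) {m : ℕ} (hm : m ≠ 0)
    (hTm : ∀ g, T^[m] g = GeneralLinearGroup.map ((φ ^ m : Ω ≃+* Ω) : Ω →+* Ω) g)
    (hρ : (∃ k, (Matrix.of E.rs.cartan).det ∣ 2 ^ k) ∨ ρ * ρ ∈ E.rs.W) (hd : ZD E.rs Ω ρ q d)
    {Γ : Type*} [Group Γ] (j : Γ →* GL τ Ω) (hj : Function.Injective j)
    (h1 : ∀ g, j g ∈ S.grp ∧ T (j g) = j g) (h2 : ∀ g ∈ S.grp, T g = g → (∃ n, g ^ r ^ n = 1) → g ∈ j.range) :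
    Mod r q d (Γ ⧸ center Γ) := by
  have k1 : ∀ (ψ : Ω ≃+* Ω), ∀ g ∈ S.grp, GeneralLinearGroup.map (ψ : Ω →+* Ω) g ∈ S.grp := fun ψ g =>
    map_mem_XS_of_x (hmap ψ)
  let A : S.res.AlgSys :=
    { faithful := h.faithful.res
      hMul := HMul.restrict _ _ fun r t u ht hu => Units.ext (Matrix.ext_of_mulVec_single fun i => by
        rw [Units.val_mul, ← mulVec_mulVec, h.h_col _ _ hu, h.h_col _ _ (mul_ne_zero ht hu), mulVec_smul, h.h_col _ _ ht,
          smul_smul, mul_zpow, mul_comm])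
      top := res_grp _
      act :=
        { toFun ψ :=
            { toFun g := ⟨_, k1 ψ _ g.2⟩
              invFun g := ⟨_, k1 ψ⁻¹ _ g.2⟩
              left_inv g := by ext; simp
              right_inv g := by ext; simp
              map_mul' a b := Subtype.ext (map_mul _ _ _) }
          map_one' := by ext; simp
          map_mul' a b := by ext; simp }
      act_x ψ r t := Subtype.ext (hmap ψ r t) }
  have hA : A.Std := fun σ q hq hσ a =>
    ((finite_twisted_GL (φ := (σ : Ω →+* Ω)) hq hσ (a : GL τ Ω)).preimage Subtype.val_injective.injOn).subset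
      fun k hk => congrArg Subtype.val hk
  let T' : MulAut S.grp :=
    { toFun g := ⟨T g, I.map_mem_XS (fun _ _ => Set.mem_univ _) g.2⟩
      invFun g := ⟨T⁻¹ g, I.inv.map_mem_XS (fun _ _ => Set.mem_univ _) g.2⟩
      left_inv g := by ext1; simp
      right_inv g := by ext1; simp
      map_mul' a b := Subtype.ext (map_mul _ _ _) }
  have k2 : ∀ g, T'^[m] g = A.act (φ ^ m) g := fun g =>
    Subtype.ext (((Function.Semiconj.iterate_right (f := Subtype.val) (ga := T') (gb := T)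
      (fun _ => rfl) m) g).trans (hTm g))
  exact mod_quot r irr g3 A hA (τ := T') ⟨I.aut, I.c_neg, fun r t => Subtype.ext (I.map_x r t)⟩ hq hφ
    hq0 ⟨⟨∅, Set.finite_empty, fun ψ _ g => Subtype.ext (hT ψ g)⟩,
      finite_twisted_of_iterate (τ := T'.toMonoidHom) (m := m) fun a =>
        (hA _ _ (hq.trans (Nat.le_self_pow hm q)) (ringEquiv_pow_apply hφ m) a).subset fun k hk => (k2 k).symm.trans hk⟩
    hm k2 hρ hd (j.codRestrict _ fun g => (h1 g).1)
    (fun a b e => hj (congrArg Subtype.val e)) (fun g => Subtype.ext (h1 g).2) fun g hg hn =>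
      (h2 g g.2 (congrArg Subtype.val hg) (hn.imp fun _ => congrArg Subtype.val)).imp fun _ => Subtype.ext

end Quot

section Mat

open Cfsg CL.Chev CL.Chev.StSys CL.InvOdd CL.SB Subgroup Matrix CL.Chev.Alg

variable {Ω : Type} [Field Ω] {τ : Type} [Fintype τ] [DecidableEq τ] [IsAlgClosed Ω] [Uncountable Ω] (r : ℕ)
  [Fact r.Prime] [CharP Ω r] {q d : ℕ} (hq : 2 ≤ q) {φ : Ω ≃+* Ω} (hφ : ∀ t, φ t = t ^ q) (hq0 : r ∣ q)
include hq hφ hq0

theorem mod_tw {ι Φ κ : Type} [Fintype ι] [DecidableEq ι] [Finite Φ] [Fintype κ] {E : Eucl ι Φ κ}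
    (irr : E.rs.Irred) (g3 : G3 E.rs) {S : StSys E.rs Ω (GL τ Ω)} {w : τ → κ → ℤ} (h : E.WRep S w)
    (hmap : ∀ (ψ : Ω ≃+* Ω) r t, GeneralLinearGroup.map (ψ : Ω →+* Ω) (S.x r t) = S.x r (ψ t)) {θ : MulAut (GL τ Ω)}
    {ρ : Equiv.Perm Φ} {a : Φ → Ω} (I : S.Ind θ ρ 1 a) (hθ : ∀ (ψ : Ω ≃+* Ω) g,
      GeneralLinearGroup.map (ψ : Ω →+* Ω) (θ g) = θ (GeneralLinearGroup.map (ψ : Ω →+* Ω) g)) (hθ2 : ∀ g, θ (θ g) = g)
    (hρ : (∃ k, (Matrix.of E.rs.cartan).det ∣ 2 ^ k) ∨ ρ * ρ ∈ E.rs.W) (hd : ZD E.rs Ω ρ q d)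
    {Γ : Type*} [Group Γ] (j : Γ →* GL τ Ω) (hj : Function.Injective j)
    (h1 : ∀ g, j g ∈ S.grp ∧ θ (GeneralLinearGroup.map (φ : Ω →+* Ω) (j g)) = j g)
    (h2 : ∀ g ∈ S.grp, θ (GeneralLinearGroup.map (φ : Ω →+* Ω) g) = g → (∃ n, g ^ r ^ n = 1) → g ∈ j.range) :
    Mod r q d (Γ ⧸ center Γ) :=
  mod_wrep r irr g3 h hq hφ hq0 hmap (T := θ * mapGL τ φ) (a := a)
    ⟨I.aut, I.c_neg, fun r t => (congrArg θ (hmap φ r t)).trans (I.map_x r _)⟩
    (fun ψ g => (hθ ψ _).trans (congrArg θ (by ext; simp [mapGL, hφ]))) two_ne_zero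
    (fun g => (congrArg θ (hθ φ _)).trans ((hθ2 _).trans (by ext; simp [mapGL, sq]))) hρ hd j hj h1 h2

theorem mod_sp {ι Φ κ : Type} [Fintype ι] [DecidableEq ι] [Finite Φ] [Fintype κ] {E : Eucl ι Φ κ}
    (irr : E.rs.Irred) (g3 : G3 E.rs) {S : StSys E.rs Ω (GL τ Ω)} {w : τ → κ → ℤ} (h : E.WRep S w)
    (hmap : ∀ (ψ : Ω ≃+* Ω) r t, GeneralLinearGroup.map (ψ : Ω →+* Ω) (S.x r t) = S.x r (ψ t))
    (hd : ZD E.rs Ω 1 q d)
    {F : Type*} [Field F] [Fintype F] (f : F →+* Ω) (hF : Fintype.card F = q)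
    {Γ : Type*} [Group Γ] (j : Γ →* GL τ F) (hj : Function.Injective j)
    (h1 : ∀ g, GeneralLinearGroup.map f g ∈ S.grp ↔ g ∈ j.range) :
    Mod r q d (Γ ⧸ center Γ) :=
  mod_tw r hq hφ hq0 irr g3 h hmap (θ := 1) (a := 1) ⟨one_mem _, by simp, by simp⟩ (fun _ _ => rfl)
    (fun _ => rfl) (Or.inr (mul_mem (one_mem _) (one_mem _))) hd
    ((GeneralLinearGroup.map f).comp j) ((map_injective f).comp hj)
    (fun g => ⟨(h1 _).2 ⟨g, rfl⟩, by ext; simp [hφ, ← hF, ← map_pow, FiniteField.pow_card]⟩) fun g hg e _ => by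
      obtain ⟨g, rfl⟩ := exists_map_eq f (g := g) fun i j => by
        rw [hF, ← hφ]; exact congrArg (fun g : GL τ Ω => g.val i j) e
      obtain ⟨g, rfl⟩ := (h1 g).1 hg
      exact ⟨g, rfl⟩

end Mat

section Orth

open Cfsg CL.Chev CL.Chev.StSys CL.Chev.Alg CL.Cls CL.InvOdd CL.YF CL.YF.M2 CL.SB Finset Matrix QuadraticMap

variable {Ω F : Type} [Field Ω] [Field F] {τ σ : Type} [Fintype τ] [DecidableEq τ] [Fintype σ] [DecidableEq σ]
  {f : F →+* Ω} {Q : QuadraticForm F (σ → F)} {Q' : QuadraticForm Ω (τ → Ω)}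
  {k : ℤ} (hk : k = 0 ∨ k = 1 ∨ k = 2) {n : ℕ} (hn : n ≠ 0) (O : OFrame k (n + 2) Q')
  [IsAlgClosed Ω] [Uncountable Ω] [Fintype F] {φ : Ω ≃+* Ω} (hφ : ∀ t, φ t = t ^ Fintype.card F) (p : ℕ)
  [Fact p.Prime] [CharP F p]
include hn hφ

theorem o_orth (hQ : (polarBilin Q).Nondegenerate) (hQ' : p = 2 → (polarBilin Q').Nondegenerate)
    (D : Desc f Q Q') (hc : D.c = 1) {u v : σ → F}
    {a : Fin (n + 2) ⊕ Fin (n + 2)} (hu : D.e u = Pi.single (O.i a) 1) (hv : D.e v = Pi.single (O.i a.swap) 1)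
    (π : Equiv.Perm τ) (hπ : ∀ x, π (π x) = x) (hx : ∀ w, D.x (φ ∘ w) = φ ∘ D.x w ∘ π)
    {ρ : Equiv.Perm (PhiK k (n + 2))} {c : PhiK k (n + 2) → Ω} (I : (oSys hk O).Ind
      (MulAut.conj ((CL.Sp.glEquiv τ Ω).symm (LinearEquiv.funCongrLeft Ω Ω π))) ρ 1 c) (hρ : ρ * ρ = 1) :
    Mod p (Fintype.card F) 4 (POmega F Q) := by
  have : CharP Ω p := (RingHom.charP_iff_charP f p).1 inferInstance
  obtain ⟨J, J1, J2⟩ := exists_J D
  have J3 : Function.Injective J := fun a b e => LinearEquiv.ext fun v => D.e_injective (by rw [← J1, e, J1])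
  set s := (CL.Sp.glEquiv τ Ω).symm (LinearEquiv.funCongrLeft Ω Ω π)
  have s1 : ∀ w, s.val *ᵥ w = w ∘ π := CL.Sp.glEquiv_symm_mulVec _
  have s2 : s * s = 1 := Units.ext (CL.Sp.matrix_ext_mulVec fun w => by
    rw [Units.val_mul, ← mulVec_mulVec, s1, s1]; ext; simp [hπ])
  have s3 : ∀ ψ : Ω ≃+* Ω, GeneralLinearGroup.map (ψ : Ω →+* Ω) s = s := fun ψ => by
    ext a b; simp [s, gl_entry, Pi.single_apply]
  have e1 : ∀ w, φ ∘ D.e w ∘ π = D.e w := fun w => (hx _).symm.trans (congrArg D.x (funext fun i => by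
    simp [hφ, ← map_pow, FiniteField.pow_card]))
  have key : ∀ g : GL τ Ω, MulAut.conj s (GeneralLinearGroup.map (φ : Ω →+* Ω) g) = g ↔
      ∀ w, φ ∘ (g.val *ᵥ w) ∘ π = g.val *ᵥ (φ ∘ w ∘ π) := fun g => by
    have : ∀ w, (s * GeneralLinearGroup.map (φ : Ω →+* Ω) g).val *ᵥ (φ ∘ w) = φ ∘ (g.val *ᵥ w) ∘ π := fun w => by
      rw [Units.val_mul, ← mulVec_mulVec, s1]; exact funext fun i => ((φ : Ω →+* Ω).map_mulVec _ _ _).symm
    rw [MulAut.conj_apply, mul_inv_eq_iff_eq_mul]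
    refine ⟨fun h w => by rw [← this, h, Units.val_mul, ← mulVec_mulVec, s1]; rfl, fun h =>
      Units.ext (CL.Sp.matrix_ext_mulVec fun w => ?_)⟩
    obtain ⟨w, rfl⟩ := φ.surjective.comp_left w
    rw [this, h, Units.val_mul, ← mulVec_mulVec, s1]; rfl
  let ι := (CL.Sp.glEquiv τ Ω).symm.toMonoidHom.comp (J.comp (OG Q).subtype)
  have hE : ∀ {u a}, D.e u = Pi.single (O.i a) 1 → ∀ w, eich Q u w ∈ (oSys hk O).grp.comap ι := fun {u a} hu w => by
    by_cases h : Q u = 0 ∧ polar Q u w = 0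
    swap
    · rw [eich_of_not h]; exact one_mem _
    obtain ⟨y, hy, e⟩ := eich_mem_of_single (H := (O.cover hk).sys.grp.map ((MonoidHom.snd _ _).comp (SpG Q').subtype))
      (O.Q_i a) (O.polar_i a) (fun z hz t => by
        by_cases e : z = O.i a
        · rw [e, eich_smul_self]; exact one_mem _
        · exact ⟨_, (O.cover hk).y_mem_grp ⟨(a, z, 1), hz, e⟩ t, by simp [OFrame.cover, OFrame.y, OFrame.yv, Y_snd]⟩)
      (D.e w)
    rw [Subgroup.mem_comap, StSys.map_grp]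
    refine ⟨y, hy, congrArg (CL.Sp.glEquiv τ Ω).symm ((congrArg Subtype.val e).trans (LinearEquiv.ext (D.induction
      (by simp) (fun _ _ e1 e2 => by rw [map_add, map_add, e1, e2]) fun b z => ?_)))⟩
    rw [map_smul, map_smul, ← hu, eich_app (by rw [D.map_e, h.1]; simp) (by rw [D.polar_e, h.2]; simp)]
    refine congrArg _ (Eq.trans ?_ (J1 _ _).symm)
    simp [eich_app h.1 h.2, D.e_add, D.e_sub, D.e_smul, D.polar_e, D.map_e, hc]
  have h5 : 5 ≤ Module.finrank F (σ → F) := by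
    have := Fintype.card_le_of_injective O.i fun a b => O.i_inj.1
    rw [← D.finrank_eq]; simp at this ⊢; omega
  have huv : IsHyp Q u v := ⟨f.injective (by simpa [hc, hu, O.Q_i] using (D.map_e u).symm),
    f.injective (by simpa [hc, hv, O.Q_i] using (D.map_e v).symm),
    f.injective (by simpa [hc, hu, hv, O.polar_i] using (D.polar_e u v).symm)⟩
  refine .of_equiv (pomegaEquiv Q) (mod_tw p Fintype.one_lt_card hφ ((CharP.cast_eq_zero_iff F p _).1 (by simp))
    (EuclK.irred hk fun _ => hn) (g3_K hk n) (O.wrep hk)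
    (map_O hk O) I (fun ψ g => by simp [s3]) (fun g => by
      rw [← MulAut.mul_apply, ← map_mul, s2, map_one, MulAut.one_apply]) (.inr (hρ ▸ one_mem _)) (zd_K hk)
    (ι.comp (commutator (OG Q)).subtype) ((CL.Sp.glEquiv τ Ω).symm.injective.comp (J3.comp
      (Subtype.val_injective.comp Subtype.val_injective))) (fun g => ⟨commutator_le_of_pair hQ (by omega) huv
        (hE hu) (hE hv) g.2, (key _).2 fun w => ?_⟩) fun g hg e ⟨l, hl⟩ => ?_)
  · refine (congrArg (φ ∘ · ∘ π) (CL.Sp.glEquiv_symm_mulVec _ _)).trans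
      (Eq.trans ?_ (CL.Sp.glEquiv_symm_mulVec _ _).symm)
    refine D.induction (P := fun w => φ ∘ J g.1.1 w ∘ π = J g.1.1 (φ ∘ w ∘ π)) ?_ (fun w w' e1 e2 => ?_)
      (fun b w => ?_) w
    · rw [show φ ∘ (0 : τ → Ω) ∘ π = 0 by ext; simp, map_zero]; ext; simp
    · rw [show φ ∘ (w + w') ∘ π = φ ∘ w ∘ π + φ ∘ w' ∘ π by ext; simp, map_add, map_add, ← e1, ← e2]; ext; simp
    · have e2 : ∀ w, φ ∘ (b • D.e w) ∘ π = φ b • D.e w := fun w =>
        Eq.trans (by ext; simp) (congrArg (φ b • ·) (e1 w))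
      rw [e2, map_smul, map_smul, J1, e2]
  · rw [StSys.map_grp] at hg
    obtain ⟨y, hy, rfl⟩ := hg
    obtain ⟨g, hg⟩ := J2 y.1.2.1 fun w i => by
      have := (key _).1 e (D.e w)
      rw [e1] at this
      replace this := (congrArg (φ ∘ · ∘ π) (CL.Sp.glEquiv_symm_mulVec _ _)).symm.trans
        (this.trans (CL.Sp.glEquiv_symm_mulVec _ _))
      rw [← hφ]
      exact congrFun (D.x.injective ((hx _).trans (by simpa using this))) i
    have h3 : g ∈ OG Q := (mem_OG_iff D (J1 g)).1 (hg ▸ y.1.2.2)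
    have h4 : ι ⟨g, h3⟩ = _ := congrArg (CL.Sp.glEquiv τ Ω).symm hg
    refine ⟨⟨⟨g, h3⟩, ?_⟩, h4⟩
    by_cases hp : p = 2
    · subst hp
      have h2 : (2 : F) = 0 := CharTwo.two_eq_zero
      let J' : OG Q →* OG Q' := (J.comp (OG Q).subtype).codRestrict _ fun g => (mem_OG_iff D (J1 g.1)).2 g.2
      have a0 : ∀ a b, dickson (hQ' rfl) (eich Q' a b) = 1 := fun a b => by
        by_cases h : Q' a = 0 ∧ polar Q' a b = 0
        · exact CL.RegU.dickson_eich' _ h.1 h.2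
        · rw [eich_of_not h, map_one]
      have a1 : dickson (hQ' rfl) (J' ⟨g, h3⟩) = 1 := by
        have : (O.cover hk).sys.grp ≤ (dickson (hQ' rfl)).ker.comap ((MonoidHom.snd _ _).comp (SpG Q').subtype) :=
          (O.cover hk).sys.XS_le_iff.2 fun r _ t => by
            change dickson (hQ' rfl) (Y Q' _ _).1.2 = 1
            rw [Y_snd]
            exact a0 _ _
        rw [show J' ⟨g, h3⟩ = y.1.2 from Subtype.ext hg]
        exact this hy
      have a2 : Q (u + v) ≠ 0 := by rw [map_add', huv.1, huv.2, huv.3]; simp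
      have a3 : J' (refl Q (u + v)) = refl Q' (D.e (u + v)) := Subtype.ext (LinearEquiv.ext (D.induction
        (by simp) (fun _ _ e1 e2 => by rw [map_add, map_add, e1, e2]) fun b z => by
          rw [map_smul, map_smul]
          refine congrArg _ ((J1 _ _).trans ?_)
          rw [Subgroup.coe_subtype, refl_app, refl_app, D.e_sub, D.e_smul, D.map_e, D.polar_e, hc]
          simp))
      rw [mem_commutator_OG_iff_of_two_eq_zero hQ h2 (.inr (by omega))]
      refine (Int.units_eq_one_or _).resolve_right fun a4 => ?_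
      have a5 := (mem_commutator_OG_iff_of_two_eq_zero hQ h2 (.inr (by omega)) (⟨g, h3⟩ * refl Q (u + v))).2 (by
        rw [map_mul, a4, dickson_refl hQ a2]; simp)
      have a6 := Abelianization.commutator_subset_ker ((dickson (hQ' rfl)).comp J') a5
      rw [MonoidHom.mem_ker, MonoidHom.comp_apply, map_mul, map_mul, a1, a3,
        dickson_refl _ (D.map_e_ne_zero a2)] at a6
      simp at a6
    · have h2 : (2 : F) ≠ 0 := fun h => hp ((Nat.prime_dvd_prime_iff_eq Fact.out Nat.prime_two).1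
        ((CharP.cast_eq_zero_iff F p 2).1 h))
      refine mem_commutator_of_odd hQ h2 ((Nat.Prime.odd_of_ne_two Fact.out hp).pow (n := l))
        (Subtype.ext (J3 ((CL.Sp.glEquiv τ Ω).symm.injective ?_)))
      exact (map_pow ι _ _).trans ((congrArg (· ^ p ^ l) h4).trans (hl.trans (map_one ι).symm))

include hk in
theorem o_osplit (hQ : (polarBilin Q).Nondegenerate) {Q' : QuadraticForm Ω (σ → Ω)}
    (hQ' : p = 2 → (polarBilin Q').Nondegenerate)
    (O : OFrame k (n + 2) Q') (h : ∀ v, Q' (f ∘ v) = f (Q v)) : Mod p (Fintype.card F) 4 (POmega F Q) :=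
  o_orth hk hn O hφ p hQ hQ' ⟨LinearEquiv.refl _ _, 1, one_ne_zero, by simpa using h⟩ rfl (a := .inl 0)
    (comp_single f _) (comp_single f _) 1 (fun _ => rfl) (fun _ => rfl) (ρ := 1) (c := 1) ⟨one_mem _, by simp, fun r t => by
      rw [show LinearEquiv.funCongrLeft Ω Ω (1 : Equiv.Perm σ) = 1 from rfl]; simp⟩ (mul_one _)

theorem o_minus (f : F →+* Ω) {a b : F}
    (hab : ∀ z₁ z₂ : F, z₁ ^ 2 + a * z₁ * z₂ + b * z₂ ^ 2 = 0 → z₁ = 0 ∧ z₂ = 0) :
    Mod p (Fintype.card F) 4 (POmega F (qfMinus (n + 1) F a b)) := by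
  obtain ⟨α, h1⟩ : ∃ α : Ω, α ^ 2 + f a * α + f b = 0 := by
    obtain ⟨α, h⟩ := IsAlgClosed.exists_root (Polynomial.C 1 * Polynomial.X ^ 2 + Polynomial.C (f a) * Polynomial.X +
      Polynomial.C (f b)) (by rw [Polynomial.degree_quadratic one_ne_zero]; decide)
    exact ⟨α, by simpa using h⟩
  have h2 : ∀ t, φ (f t) = f t := fun t => by rw [hφ, ← map_pow, FiniteField.pow_card]
  have h3 : α ≠ φ α := fun e => by
    obtain ⟨t, rfl⟩ := (mem_range_iff_pow_card f).2 ((hφ α).symm.trans e.symm)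
    exact one_ne_zero (hab t 1 (f.injective (by simpa using h1))).2
  have h4 : φ α ^ 2 + f a * φ α + f b = 0 := by simpa [h2] using congrArg φ h1
  have h5 : α + φ α = - f a := mul_left_cancel₀ (sub_ne_zero.2 h3) (by linear_combination h1 - h4)
  have h6 : φ (φ α) = α := by
    have := congrArg φ h5
    rw [map_add, map_neg, h2] at this
    linear_combination this - h5
  let x : ((Fin (n + 1) ⊕ Fin (n + 1)) ⊕ Fin 2 → Ω) →ₗ[Ω] (Fin (n + 2) ⊕ Fin (n + 2) → Ω) :=
    { toFun v := Sum.elim (Fin.snoc (fun i => v (.inl (.inl i))) (v (.inr 0) - α * v (.inr 1)))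
        (Fin.snoc (fun i => v (.inl (.inr i))) (v (.inr 0) - φ α * v (.inr 1)))
      map_add' u v := by ext (i | i) <;> induction i using Fin.lastCases <;> simp <;> ring
      map_smul' c v := by ext (i | i) <;> induction i using Fin.lastCases <;> simp <;> ring }
  have hx : Function.Injective x := (injective_iff_map_eq_zero _).2 fun v h => by
    have a1 := congrFun h (.inl (Fin.last _))
    have a2 := congrFun h (.inr (Fin.last _))
    simp [x] at a1 a2
    have a3 : v (.inr 1) = 0 := mul_left_cancel₀ (sub_ne_zero.2 h3) (by linear_combination a2 - a1)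
    ext ((i | i) | i)
    · simpa [x] using congrFun h (.inl i.castSucc)
    · simpa [x] using congrFun h (.inr i.castSucc)
    · fin_cases i
      · simpa [a3] using a1
      · exact a3
  obtain ⟨ρ, c, hρ, I⟩ := ind_D' (Ω := Ω) (n := n)
  refine o_orth _ hn _ hφ p (nondeg_qfMinus a b hab) (fun _ => nondeg_qfPlus) (f := f)
    ⟨x.linearEquivOfInjective hx (by simp; ring), 1, one_ne_zero, fun v => ?_⟩ rfl (a := .inl 0)
    (u := Pi.single (.inl (.inl 0)) 1) (v := Pi.single (.inl (.inr 0)) 1) ?_ ?_ _ (Equiv.swap_apply_self _ _)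
    (fun w => ?_) I (Equiv.ext fun r => Subtype.ext (funext fun j => by
      rw [Equiv.Perm.mul_apply, hρ, hρ]; split_ifs <;> simp))
  · simp [x, qfPlus_apply, qfMinus_apply, Fin.sum_univ_castSucc]
    linear_combination (-f (v (.inr 0)) * f (v (.inr 1)) + α * f (v (.inr 1)) ^ 2) * h5 - f (v (.inr 1)) ^ 2 * h1
  · ext (i | i) <;> induction i using Fin.lastCases <;> simp [Desc.e, x, frameD, Pi.single_apply, apply_ite f]
  · ext (i | i) <;> induction i using Fin.lastCases <;> simp [Desc.e, x, frameD, Pi.single_apply, apply_ite f]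
  · ext (i | i) <;> induction i using Fin.lastCases <;> simp [x, Equiv.swap_apply_def, h6]

end Orth

end ModC

variable {F : Type} [Field F] [Fintype F] (p : ℕ) [Fact p.Prime] [CharP F p]

section Lin

open ModC Cfsg Cfsg.Lie CL.Chev CL.Chev.StSys CL.Chev.Cert CL.Chev.Alg CL.InvOdd CL.Cox CL.YF CL.SB Matrix

theorem mod_psl {n : ℕ} (hn : 2 ≤ n) : Mod p (Fintype.card F) (Nat.gcd n (Fintype.card F - 1))
    (Matrix.ProjectiveSpecialLinearGroup (Fin n) F) := by
  obtain ⟨n, rfl⟩ : ∃ k, n = k + 1 := ⟨n - 1, by omega⟩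
  let f := algebraMap F (Univ F)
  have : CharP (Univ F) p := charP_of_injective_algebraMap f.injective p
  obtain ⟨φ, hφ⟩ := exists_frob_of_card f (FiniteField.isPrimePow_card F) (pow_one _).symm
  exact mod_sp p Fintype.one_lt_card hφ ((CharP.cast_eq_zero_iff F p _).1 (by simp)) EuclA.irred
    (g3_A n) (SysA.wrep n _) map_A (zd_A1 Fintype.card_pos) f rfl _ SpecialLinearGroup.toGL_injective (mem_A f)

theorem mod_psu {n q : ℕ} (hn : 2 ≤ n) (hF : Fintype.card F = q ^ 2) : Mod p q (Nat.gcd n (q + 1)) (PSU n F q) := by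
  obtain ⟨n, rfl⟩ : ∃ k, n = k + 1 := ⟨n - 1, by omega⟩
  let f := algebraMap F (Univ F)
  have : CharP (Univ F) p := charP_of_injective_algebraMap f.injective p
  obtain ⟨l, k, hl, -, hk, e⟩ := CL.Uni.exists_prime_pow hF
  obtain ⟨φ, hφ⟩ := exists_frob_of_card f ((isPrimePow_nat_iff q).2 ⟨l, k, hl, hk, e.symm⟩) hF
  let θ := itr (Fin (n + 1)) (Univ F)
  have key : ∀ g : GL (Fin (n + 1)) F, g ∈ GU (n + 1) F q ↔
      θ (GeneralLinearGroup.map (φ : _ →+* _) (GeneralLinearGroup.map f g)) = GeneralLinearGroup.map f g :=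
    fun g => by
      refine (CL.GLn.mem_GU_iff (CL.Uni.isBar_bar hF) (g := g)).trans ?_
      rw [eq_comm (a := θ _), ← mul_inv_eq_one (G := GL _ _), Units.ext_iff, ← (Matrix.map_injective f.injective).eq_iff]
      refine Iff.of_eq (congrArg₂ _ ?_ (Matrix.map_one _ (map_zero _) (map_one _)))
      rw [Matrix.map_mul]
      exact congrArg _ (Matrix.ext fun i j => (map_pow f _ _).trans (hφ _).symm)
  exact mod_tw p (CL.Uni.two_le_q hF) hφ
    ((CharP.cast_eq_zero_iff (Univ F) p _).1 (cast_eq_zero_of_card f hF)) EuclA.irred (g3_A n)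
    (SysA.wrep n _) map_A (θ := θ) (a := -1) (ρ := negP (euclA n).rs)
    ⟨negP_mem_aut _, by simp, fun r t => by
      rw [negP_apply, EuclA.neg_eq, Pi.neg_apply, Pi.one_apply, neg_one_mul, StSys.x_neg, ← inv_eq_iff_eq_inv,
        Units.ext_iff, itr_inv, StSys.map_x, StSys.map_x, SysA.x_eq, SysA.x_eq]
      change (1 + single r.1.1 r.1.2 t)ᵀ = 1 + single r.1.2 r.1.1 t
      rw [transpose_add, transpose_one, transpose_single]⟩ (fun _ _ => rfl) (fun _ => rfl)
    (.inr (by rw [negP_mul_self]; exact one_mem _)) zd_A2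
    ((GeneralLinearGroup.map f).comp (CL.GLn.suGL (n + 1) F q)) ((map_injective f).comp CL.GLn.suGL_injective)
    (fun g => ⟨(mem_A f _).2 ⟨g, rfl⟩, (key _).1 g.2⟩) fun g hg e _ => by
      obtain ⟨g, rfl⟩ := exists_map_eq f (g := g) fun i j => by
        have := congrArg (fun g => (θ (GeneralLinearGroup.map (φ : _ →+* _) g)).val i j) e
        rw [hF, sq, pow_mul, ← hφ, ← hφ]
        exact this.trans (congrArg (fun g : GL _ _ => g.val i j) e)
      obtain ⟨g, rfl⟩ := (mem_A f g).1 hg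
      exact ⟨⟨g, (key g.toGL).2 e⟩, rfl⟩

theorem mod_psp {m : ℕ} (hm : 2 ≤ m) : Mod p (Fintype.card F) 4 (PSp m F) := by
  obtain ⟨n, rfl⟩ : ∃ k, m = k + 2 := ⟨m - 2, by omega⟩
  let f := algebraMap F (Univ F)
  have : CharP (Univ F) p := charP_of_injective_algebraMap f.injective p
  obtain ⟨φ, hφ⟩ := exists_frob_of_card f (FiniteField.isPrimePow_card F) (pow_one _).symm
  refine mod_sp p Fintype.one_lt_card hφ ((CharP.cast_eq_zero_iff F p _).1 (by simp))
    (EuclK.irred _ (by simp)) (g3_K _ n) (SysC.wrep _ n) (fun ψ r t => Units.ext (Matrix.ext fun a b => ?_)) (zd_K _) f rfl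
    _ CL.Sp.spToGL_injective fun g => ?_
  · refine (congrArg ψ (gl_entry _ a b)).trans (Eq.trans ?_ (gl_entry _ a b).symm)
    change ψ (SysC.y _ _ _ _) = SysC.y _ _ _ _
    simp [SysC.y, SysC.yv_apply ((SysC.cover (Univ F) n).sec r).2, Pi.single_apply, apply_ite ψ, ite_apply]
  · rw [mem_C, CL.Sp.spToGL_range, CL.Sp.mem_spGL_iff_mem_symplecticGroup, SymplecticGroup.mem_iff,
      SymplecticGroup.mem_iff, ← (Matrix.map_injective f.injective).eq_iff, Matrix.map_mul, Matrix.map_mul, map_J,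
      transpose_map]
    rfl

end Lin

open Cfsg CL.Chev CL.Chev.StSys CL.Chev.Alg CL.Cls CL.InvOdd CL.YF CL.YF.M2 Finset Matrix QuadraticMap

theorem mod_oodd {m : ℕ} (hF : Odd (Fintype.card F)) (hm : 3 ≤ m) :
    Mod p (Fintype.card F) 4 (POmega F (quadFormOdd m F)) := by
  obtain ⟨n, rfl⟩ : ∃ k, m = k + 2 := ⟨m - 2, by omega⟩
  obtain ⟨φ, hφ⟩ := frob (F := F)
  have h2 : (2 : F) ≠ 0 := fun h => by
    have := even_card_of_two_eq_zero h
    rw [Nat.odd_iff] at hF
    omega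
  exact ModC.o_osplit (.inr (.inl rfl)) (by omega) hφ p (nondeg_qfOdd h2)
    (by rintro rfl; exact absurd CharTwo.two_eq_zero h2) (frameB _ _) (qfOdd_comp (algebraMap F _))

theorem mod_oplus {m : ℕ} (hm : 4 ≤ m) : Mod p (Fintype.card F) 4 (POmega F (quadFormPlus m F)) := by
  obtain ⟨n, rfl⟩ : ∃ k, m = k + 2 := ⟨m - 2, by omega⟩
  obtain ⟨φ, hφ⟩ := frob (F := F)
  exact ModC.o_osplit (.inl rfl) (by omega) hφ p nondeg_qfPlus (fun _ => nondeg_qfPlus) (frameD _ _)
    (qfPlus_comp (algebraMap F _))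

theorem mod_ominus {m : ℕ} (hm : 3 ≤ m) {a b : F}
    (hab : ∀ z₁ z₂ : F, z₁ ^ 2 + a * z₁ * z₂ + b * z₂ ^ 2 = 0 → z₁ = 0 ∧ z₂ = 0) :
    Mod p (Fintype.card F) 4 (POmega F (quadFormMinus m F a b)) := by
  obtain ⟨n, rfl⟩ : ∃ k, m = k + 1 := ⟨m - 1, by omega⟩
  obtain ⟨φ, hφ⟩ := frob (F := F)
  exact ModC.o_minus (by omega) hφ p (algebraMap F _) hab

end CL.NCO
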