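/-
Project NCO (S4185): the uniform torus argument in an adjoint algebraic model.
-/
import Cfsg.Agent.NCO.Defs
import Cfsg.Agent.SB.G

set_option autoImplicit false

namespace CL.NCO

open Cfsg CL.Chev CL.Chev.StSys CL.InvOdd CL.SB CL.PQ

namespace TorA

variable {ι Φ : Type} [Fintype ι] [DecidableEq ι] {R : RS ι Φ} {Ω : Type*} [Field Ω] {G : Type*} [Group G]
  {S : StSys R Ω G} [Finite Φ] [IsAlgClosed Ω] {τ : MulAut G} {ρ : Equiv.Perm Φ} {f : Φ → Ω ≃+* Ω} {c : Φ → Ω} {Q : ℕ}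

theorem exists_root (Ω : Type*) [Field Ω] [IsAlgClosed Ω] (r : ℕ) [Fact r.Prime] [CharP Ω r] {t : ℕ} (ht : t.Prime)
    (h : t ≠ r) : ∃ ζ : Ω, IsPrimitiveRoot ζ t :=
  have : NeZero (t : Ω) := ⟨fun e => h ((Nat.prime_dvd_prime_iff_eq Fact.out ht).1
    ((CharP.cast_eq_zero_iff _ r t).1 e)).symm⟩
  HasEnoughRootsOfUnity.exists_primitiveRoot Ω t

theorem dvd_KK {π : Equiv.Perm ι} (T : SB.Tw S τ ρ f c Q π) (hS : S.Faithful) (hM : S.HMul) [Finite (KK S τ)]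
    [Nonempty ι] (r : ℕ) [Fact r.Prime] [CharP Ω r] (hπ : ∀ i j, R.cartan (π i) (π j) = R.cartan i j) {q : ℕ}
    (hq : ∀ s t, f s t = t ^ q) {t : ℕ} (ht : t.Prime) (h : t = 2 ∨ t = r ∨ t ∣ q ^ 2 - 1) :
    t ∣ Nat.card (KK S τ) := by
  obtain ⟨j⟩ := ‹Nonempty ι›
  by_cases h1 : t = r
  · obtain ⟨u, u1, u2, u3⟩ := T.exists_lead hS.uFaithful (J := Set.univ) fun _ => Iff.rfl
    obtain ⟨n, hn⟩ := exists_pow_of_gen (p := r) (.inl (S.XP_le_U _ u1))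
    obtain ⟨k, -, hk⟩ := (Nat.dvd_prime_pow (Fact.out : r.Prime)).1 (orderOf_dvd_of_pow_eq_one hn)
    refine Dvd.dvd.trans ?_ (Subgroup.orderOf_dvd_natCard _ (mem_KK_U (S.XP_le_U _ u1) u2))
    rw [hk, h1]
    refine dvd_pow_self r ?_
    rintro rfl
    obtain rfl := orderOf_eq_one_iff.1 hk
    exact u3 ∅ (fun _ h => h.elim) R.closed_empty (one_mem _) j trivial
  by_cases h2 : t = 2
  · by_contra hn
    obtain ⟨n, n1, n2⟩ := (T.twData hS).exists_n hS (orb π j)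
    obtain ⟨m, hm⟩ := Nat.odd_iff.2 (Nat.two_dvd_ne_zero.1 (h2 ▸ hn))
    have n3 : n ^ Nat.card (KK S τ) = 1 := congrArg Subtype.val (pow_card_eq_one' (x := (⟨n, n1⟩ : KK S τ)))
    have n4 := hS.eq_of_NW (n := 1) (w := R.w0J (orb π j).1 ^ Nat.card (KK S τ)) (w' := 1)
      (n3 ▸ (pow_mem n2 (Nat.card (KK S τ)) :)) (one_mem _)
    rw [hm, pow_succ, pow_mul, show R.w0J (orb π j).1 ^ 2 = 1 from Equiv.ext (R.w0J_w0J _), one_pow, one_mul] at n4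
    have := R.pos_w0J_iff (R.simple_mem_PhiJ.2 (mem_orb π j))
    rw [n4] at this
    exact this.1 (R.pos_simple j) (R.pos_simple j)
  obtain ⟨ζ, hζ⟩ := exists_root Ω r ht h1
  obtain ⟨m, hm⟩ := (h.resolve_left h2).resolve_left h1
  refine T.dvd_of_pow hS hM r ht h2 h1 hπ hζ.eq_orderOf.symm ?_
  have q0 : q ≠ 0 := by
    rintro rfl
    simpa using hq (R.simple j) 0
  rw [← T.sq (R.simple j), hq, hq, ← pow_mul, ← sq, ← Nat.sub_add_cancel (Nat.one_le_pow 2 q q0.pos), hm, pow_succ,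
    pow_mul, hζ.pow_eq_one, one_pow, one_mul]

variable [Uncountable Ω] (A : S.AlgSys) (M : Mon S τ ρ f c Q) (hτ : A.IsFrob τ.toMonoidHom) (h1 : ρ ∈ R.aut) {q : ℕ}
  (h3 : ∀ s t, f s t = t ^ q)
include M hτ h1 h3

theorem cent (r : ℕ) [Fact r.Prime] [CharP Ω r] {b : ι → Ωˣ} {x : G}
    (hx : τ (x * A.hMul.torus b * x⁻¹) = x * A.hMul.torus b * x⁻¹) {α : Φ} (hα : α ∈ R.Psi b) {J : Subgroup G}
    (hJ : ∀ g, τ g = g → (∃ n, g ^ r ^ n = 1) → g ∈ J) {t : ℕ} (ht : t.Prime) (h0 : t = 2 ∨ t = r ∨ t ∣ q ^ 2 - 1) :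
    ∃ g ∈ J, orderOf g = t ∧ Commute g (x * A.hMul.torus b * x⁻¹) := by
  classical
  obtain ⟨k, hk, n, w, a, h2, h4, I, h5, h6, π, h7, h8⟩ := SB.exists_normal A M hτ hx
  have := Fintype.ofFinite (Ind R (R.Psi b))
  have hn : ∀ r ∈ R.Psi b, R.neg r ∈ R.Psi b := fun r => RS.neg_mem_Psi.2
  have hc := RS.closed_Psi (R := R) b
  have h := subBase_ind hn hc
  have T := I.pm.sub h hc h5 h6 h7 h8
  have g1 := InvOdd.sub_grp h hc S
  set y := x * k⁻¹ with hy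
  have e1 : y * A.hMul.torus b * y⁻¹ = x * A.hMul.torus b * x⁻¹ := by
    rw [hy, mul_assoc x k⁻¹, (A.hMul.commute_XS subset_rfl hk).inv_left.eq]; group
  have : Finite (KK (sub h hc S) (MulAut.conj n * τ)) := ((hτ.conj n).finite_fixed.subset fun _ => KK_fix).to_subtype
  have : Nonempty (Ind R (R.Psi b)) := let ⟨_, _, i, _⟩ := h.rs.exists_W_simple ⟨α, hα⟩; ⟨i⟩
  have := Fact.mk ht
  obtain ⟨u, hu⟩ := exists_prime_orderOf_dvd_card' t (dvd_KK T (sub_faithful h hc A.faithful) (sub_hMul h hc A.hMul) r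
    (fun i j => by
      change R.pair (π i) (π j) = R.pair i j
      rw [← h7, ← h7, RS.aut_pair (mul_mem (R.W_le_aut (NW_mem_W h2)) h1)]) (fun s => h3 s) ht h0)
  refine ⟨y * u * y⁻¹, (Subgroup.closure_le (J.comap (MulAut.conj y).toMonoidHom)).2 (fun g hg => ?_) u.2,
    (MulEquiv.orderOf_eq (MulAut.conj y) _).trans ((Subgroup.orderOf_coe u).trans hu),
    e1 ▸ (A.hMul.commute_XS subset_rfl (g1 ▸ KK_le_grp u.2)).conj y⟩
  obtain ⟨m, hm⟩ := exists_pow_of_gen (p := r) hg.2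
  exact hJ _ ((conj_fix h4).1 hg.1) ⟨m, by
    change (y * g * y⁻¹) ^ _ = 1
    rw [conj_pow, hm]; simp⟩

theorem nontor {p d : ℕ} (hp : p.Prime)
    (h2 : ∀ z : ι → Ωˣ, (∀ s, R.chi Ωˣ s z = 1) → R.tAct ρ z ^ q = z → z ^ d = 1) {b : ι → Ωˣ} {x g : G}
    (e1 : τ (x * A.hMul.torus b * x⁻¹) = x * A.hMul.torus b * x⁻¹) (e2 : (x * A.hMul.torus b * x⁻¹) ^ p = 1)
    (g1 : τ g = g) (g2 : Commute g (x * A.hMul.torus b * x⁻¹)) (g3 : x⁻¹ * g * x ∉ S.XS (R.Psi b) ⊔ S.H) : p ∣ d := by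
  obtain ⟨k, hk, n, w, a, h4, h5, I, h6, -⟩ := SB.exists_normal A M hτ e1
  have b1 := chi_pow_eq_one A e2
  have hf := isOfFinOrder_of_chi hp.ne_zero b1
  set y := x * k⁻¹ with hy
  have e3 : y * A.hMul.torus b * y⁻¹ = x * A.hMul.torus b * x⁻¹ := by
    rw [hy, mul_assoc x k⁻¹, (A.hMul.commute_XS subset_rfl hk).inv_left.eq]; group
  have g2' : Commute g (y * A.hMul.torus b * y⁻¹) := e3 ▸ g2
  obtain ⟨m, hm, n', v, h7, h8, h9⟩ := exists_cent A (b := b) (g := y⁻¹ * g * y) (by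
    simpa [mul_assoc] using g2'.conj y⁻¹)
  have hv := NW_mem_W h7
  have h10 : R.tAct v b ≠ b := fun e => g3 (by
    have := mul_mem (mul_mem (Subgroup.mem_sup_left (inv_mem hk)) (h8 ▸ mul_mem hm ((mem_C_iff A hf h7).2 e)))
      (Subgroup.mem_sup_left hk)
    simpa [hy, mul_assoc] using this)
  have hσ : w * ρ ∈ R.aut := mul_mem (R.W_le_aut (NW_mem_W h4)) h1
  have hσ2 : ∀ z : ι → Ωˣ, (∀ s, R.chi Ωˣ s z = 1) → R.tAct (w * ρ) z = R.tAct ρ z := fun z hz => by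
    rw [RS.tAct_mul (R.W_le_aut (NW_mem_W h4)), RS.tAct_eq_of_chi (fun s => by
      obtain ⟨s, rfl⟩ := ρ.surjective s
      rw [RS.chi_tAct h1, hz]) (NW_mem_W h4)]
  have t1 := (conj_fix h5).2 (e3 ▸ e1)
  have t2 : (MulAut.conj n * τ) (m * n') = m * n' := h8 ▸ (conj_fix h5).2 (by simpa [mul_assoc] using g1)
  generalize w * ρ = σ at *
  generalize MulAut.conj n * τ = τ' at *
  have t3 : τ' m ∈ S.XS (R.Psi b) ⊔ S.H := (sup_le (b := S.H) (c := (S.XS (R.Psi b) ⊔ S.H).comap τ'.toMonoidHom)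
    (fun g hg => Subgroup.mem_sup_left (I.pm.map_XS (fun r => (h6 r).2) hg))
    fun g hg => Subgroup.mem_sup_right (I.pm.map_H hg)) hm
  have t4 := (mem_C_iff A hf (NW_mul (I.pm.map_NW h7) (NW_inv h7))).1 (by
    rw [map_mul, ← eq_inv_mul_iff_mul_eq] at t2
    rw [t2, ← mul_assoc, mul_inv_cancel_right]; exact mul_mem (inv_mem t3) hm)
  set z := R.tAct v b / b with hz
  have z1 : ∀ s, R.chi Ωˣ s z = 1 := fun s => by simp [hz, h9]
  have z2 : R.tAct v b = b * z := by simp [hz]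
  have z3 : ∀ s, R.chi Ωˣ s (b / R.tAct σ (b ^ q)) = 1 := fun s => by
    obtain ⟨s, rfl⟩ := σ.surjective s
    rw [map_div, RS.chi_tAct hσ, div_eq_one, Units.ext_iff, I.pm.chi_map A.hMul A.faithful.uFaithful (b := b) (z := 1)
      (by simpa using t1) fun _ => Commute.one_left _, h3]
    simp
  have z4 : z = R.tAct σ z ^ q := by
    have hu := I.pm.conj_W hv
    have a1 : R.tAct (σ * v * σ⁻¹) b = b * z := by
      rw [← inv_mul_cancel_right (σ * v * σ⁻¹) v, RS.tAct_mul (R.W_le_aut (mul_mem hu (inv_mem hv))), z2, map_mul, t4,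
        RS.tAct_eq_of_chi z1 (mul_mem hu (inv_mem hv))]
    have a2 := RS.tAct_eq_of_chi z3 hu
    rw [map_div, a1, RS.tAct_mul (mul_mem hσ (R.W_le_aut hv)), RS.tAct_inv_tAct hσ, RS.tAct_mul hσ, map_pow, z2, mul_pow,
      map_mul, mul_div_mul_comm, mul_eq_left, div_eq_one, map_pow] at a2
    exact a2
  have : Fact p.Prime := ⟨hp⟩
  exact orderOf_eq_prime (div_pow_eq_one b1 hv) (div_ne_one.2 h10) ▸
    orderOf_dvd_of_pow_eq_one (h2 z z1 (hσ2 z z1 ▸ z4.symm))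

omit M hτ h1 h3 [IsAlgClosed Ω] [Uncountable Ω] in
theorem pick {p : ℕ} (hp : p.Prime) {b b' : ι → Ωˣ} {y e g : G} (he : e = y * A.hMul.torus b * y⁻¹)
    (hg : g = y * A.hMul.torus b' * y⁻¹) (e2 : e ^ p = 1) (g2 : g ^ p = 1) (α : Φ) :
    ∃ a, R.chi Ωˣ α a = 1 ∧ (e = y * A.hMul.torus a * y⁻¹ ∨ ∃ k : ℤ, e ^ k * g = y * A.hMul.torus a * y⁻¹) := by
  have b1 := chi_pow_eq_one A (he ▸ e2)
  have b2 := chi_pow_eq_one A (hg ▸ g2)
  by_cases h : R.chi Ωˣ α b = 1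
  · exact ⟨b, h, .inl he⟩
  · have : NeZero p := ⟨hp.ne_zero⟩
    have : Fact p.Prime := ⟨hp⟩
    have hζ : IsPrimitiveRoot (R.chi Ωˣ α b : Ω) p :=
      IsPrimitiveRoot.coe_units_iff.2 (orderOf_eq_prime (b1 α) h ▸ IsPrimitiveRoot.orderOf _)
    obtain ⟨i, -, hi⟩ := hζ.eq_pow_of_pow_eq_one (ξ := (R.chi Ωˣ α b' : Ω)) (congrArg Units.val (b2 α))
    exact ⟨b ^ (-i : ℤ) * b', Units.ext (by simp [← hi]), .inr ⟨-i, by rw [he, hg, conj_zpow, map_mul, map_zpow]; group⟩⟩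

end TorA

open TorA in
theorem torStmt : TorStmt := by
  rintro p q d _ K _ _ ⟨M, h1, h3, h2⟩ s hs s2 sp hN
  have := Fact.mk hs
  obtain ⟨a, b, a1, b1, ab, a2, b2⟩ := hN.exists_pair hs s2
  have e2 : M.j a ^ s = 1 := by rw [← map_pow, a1, map_one]
  have g2 : M.j b ^ s = 1 := by rw [← map_pow, b1, map_one]
  obtain ⟨m, q', φ, q1, q2, q3, q4⟩ := M.iter
  have q5 : (q' : M.Ω) = 0 := (CharP.cast_eq_zero_iff _ p q').2 q2
  have q6 : ∀ g, M.τ g = g → M.A.act φ g = g := fun g h => (q4 g).symm.trans (Function.iterate_fixed h m)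
  have q7 : s.Coprime q' := hs.coprime_iff_not_dvd.2 fun ⟨l, hl⟩ => by
    obtain ⟨ζ, hζ⟩ := exists_root M.Ω p hs sp
    exact hζ.ne_one hs.one_lt (φ.injective (by rw [q3, hl, pow_mul, hζ.pow_eq_one, one_pow, map_one]))
  obtain ⟨x, c, -, hx⟩ := AlgSys.exists_conj_torus_of_commute q3 q1 q5 M.std M.A.hMul.conn_one (by simp) hs q7 (a := 1)
    (s := M.j a) (by simp) (q6 _ (M.fix a)) (by simpa using e2)
  by_cases h : x⁻¹ * M.j b * x ∈ M.S.XS (M.R.Psi c) ⊔ M.S.H; swap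
  · exact .inl (nontor M.A M.mon M.frob h1 h3 hs h2 (hx ▸ M.fix a) (hx ▸ e2) (M.fix b) (hx ▸ ab.symm.map M.j) h)
  refine .inr fun t ht ts h0 => ?_
  obtain ⟨y, c', h4, h5⟩ := exists_toral M.A M.std q1 q3 q5 hs q7 (hx ▸ q6 _ (M.fix a)) (q6 _ (M.fix b)) g2 h
  obtain ⟨α, -⟩ : ∃ α, M.R.chi M.Ωˣ α c ≠ 1 := by
    by_contra! n
    refine a2 (M.inj ?_)
    rw [hx, show M.A.hMul.torus c = 1 from Subgroup.mem_bot.1 (M.ctr ▸ (torus_central M.A).2 n)]; simp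
  obtain ⟨c0, c1, c2⟩ := pick M.A hs (hx.trans h4) h5 e2 g2 α
  obtain ⟨a0, o, e⟩ : ∃ a0, orderOf a0 = s ∧ M.j a0 = y * M.A.hMul.torus c0 * y⁻¹ := by
    rcases c2 with e | ⟨k, e⟩
    · exact ⟨a, orderOf_eq_prime a1 a2, e⟩
    · refine ⟨a ^ k * b, orderOf_eq_prime ?_ fun n => b2 ?_, by rw [map_mul, map_zpow, e]⟩
      · rw [(ab.zpow_left _).mul_pow, b1, ← zpow_natCast, ← zpow_mul, mul_comm, zpow_mul, zpow_natCast, a1]; simp
      · exact eq_inv_of_mul_eq_one_right n ▸ inv_mem (zpow_mem (Subgroup.mem_zpowers a) k)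
  obtain ⟨_, ⟨k, rfl⟩, k1, k2⟩ := cent M.A M.mon M.frob h1 h3 p (e ▸ M.fix a0) c1 M.unip ht h0
  exact .of_commute ht hs ts (M.inj (by rw [map_mul, map_mul, e, k2.eq])) ((orderOf_injective _ M.inj k).symm.trans k1) o

end CL.NCO
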